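import Cfsg.Agent.EqLemmas

/-!
# Coprime action on an abelian group (no Schur-Zassenhaus needed)

* `conjAut`, `conjProd` (averaging map)
* `abelian_inf_eq_bot`, `abelian_sup_eq`: `V = C_V(A) × [V, A]`
* `abelian_trivial_of_prime_order`
* `exists_invariant_complement` (Maschke)
* `mem_of_pow_mem`
-/

set_option autoImplicit false

namespace Cfsg.Agent.Coprime

open scoped IsMulCommutative commutatorElement

variable {G : Type*} [Group G]

theorem mem_of_pow_mem {H : Subgroup G} {x : G} {n : ℕ} (hn : (orderOf x).Coprime n)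
    (h : x ^ n ∈ H) : x ∈ H := by
  obtain ⟨m, hm⟩ := exists_pow_eq_self_of_coprime hn.symm
  rw [← hm]
  exact H.pow_mem h m

theorem mem_of_pow_mem_of_mem [Finite G] {H K : Subgroup G} {x : G} {n : ℕ} (hx : x ∈ K)
    (hn : n.Coprime (Nat.card K)) (h : x ^ n ∈ H) : x ∈ H :=
  mem_of_pow_mem (((hn.symm).coprime_dvd_left
    (Subgroup.orderOf_mk x hx ▸ orderOf_dvd_natCard (⟨x, hx⟩ : K)))) h

/-- Conjugation as a homomorphism `A →* MulAut V`. -/
def conjAut {A V : Subgroup G} (hAV : A ≤ Subgroup.normalizer (V : Set G)) : A →* MulAut V :=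
  V.normalizerMonoidHom.comp (Subgroup.inclusion hAV)

theorem coe_conjAut {A V : Subgroup G} (hAV : A ≤ Subgroup.normalizer (V : Set G)) (a : A)
    (v : V) : (conjAut hAV a v : G) = a * v * (a : G)⁻¹ := rfl

/-- The averaging map of `A` on an abelian `V`. -/
noncomputable def conjProd [Finite G] {A V : Subgroup G} [IsMulCommutative V]
    (hAV : A ≤ Subgroup.normalizer (V : Set G)) : V →* V :=
  letI := Fintype.ofFinite A
  ∏ a : A, (conjAut hAV a).toMonoidHom

section
variable [Finite G] {A V : Subgroup G} [IsMulCommutative V]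
  (hAV : A ≤ Subgroup.normalizer (V : Set G))

theorem conjProd_apply [Fintype A] (v : V) : conjProd hAV v = ∏ a : A, conjAut hAV a v := by
  rw [conjProd, MonoidHom.finsetProd_apply]
  exact Finset.prod_congr (by ext; simp) fun _ _ => rfl

theorem conjProd_conjAut (b : A) (v : V) : conjProd hAV (conjAut hAV b v) = conjProd hAV v := by
  cases nonempty_fintype A
  rw [conjProd_apply, conjProd_apply]
  exact Fintype.prod_equiv (Equiv.mulRight b) _ _ fun a => by simp

theorem conjAut_conjProd (b : A) (v : V) : conjAut hAV b (conjProd hAV v) = conjProd hAV v := by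
  cases nonempty_fintype A
  rw [conjProd_apply, map_prod]
  exact Fintype.prod_equiv (Equiv.mulLeft b) _ _ fun a => by simp

theorem conjProd_mem_centralizer (v : V) :
    (conjProd hAV v : G) ∈ V ⊓ Subgroup.centralizer (A : Set G) := by
  refine ⟨(conjProd hAV v).2, fun a ha => ?_⟩
  have := congrArg Subtype.val (conjAut_conjProd hAV ⟨a, ha⟩ v)
  rw [coe_conjAut] at this
  exact mul_inv_eq_iff_eq_mul.1 this

theorem conjProd_of_mem_centralizer {v : V} (hv : (v : G) ∈ Subgroup.centralizer (A : Set G)) :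
    conjProd hAV v = v ^ Nat.card A := by
  cases nonempty_fintype A
  rw [conjProd_apply, Nat.card_eq_fintype_card, ← Finset.card_univ, ← Finset.prod_const]
  refine Finset.prod_congr rfl fun a _ => Subtype.ext ?_
  rw [coe_conjAut, mul_inv_eq_iff_eq_mul]
  exact hv a a.2

end

theorem abelian_inf_eq_bot [Finite G] {A V : Subgroup G} [IsMulCommutative V]
    (hAV : A ≤ Subgroup.normalizer (V : Set G)) (hcop : (Nat.card A).Coprime (Nat.card V)) :
    (V ⊓ Subgroup.centralizer (A : Set G)) ⊓ ⁅V, A⁆ = ⊥ := by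
  have hker : ⁅V, A⁆ ≤ (conjProd hAV).ker.map V.subtype := by
    rw [Subgroup.commutator_le]
    intro v hv a ha
    refine ⟨⟨v, hv⟩ * conjAut hAV ⟨a, ha⟩ ⟨v, hv⟩⁻¹, ?_, ?_⟩
    · simp [conjProd_conjAut]
    · simp [coe_conjAut, commutatorElement_def, mul_assoc]
  rw [eq_bot_iff]
  rintro x ⟨⟨hxV, hxC⟩, hx⟩
  obtain ⟨v, hv, rfl⟩ := hker hx
  rw [SetLike.mem_coe, MonoidHom.mem_ker, conjProd_of_mem_centralizer hAV hxC] at hv
  refine mem_of_pow_mem_of_mem (H := ⊥) hxV hcop ?_
  rw [Subgroup.mem_bot]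
  exact congrArg Subtype.val hv

theorem abelian_sup_eq [Finite G] {A V : Subgroup G} [IsMulCommutative V]
    (hAV : A ≤ Subgroup.normalizer (V : Set G)) (hcop : (Nat.card A).Coprime (Nat.card V)) :
    (V ⊓ Subgroup.centralizer (A : Set G)) ⊔ ⁅V, A⁆ = V := by
  refine le_antisymm (sup_le inf_le_left
    (Subgroup.le_normalizer_iff_commutator_le_left.1 hAV)) fun x hx => ?_
  refine mem_of_pow_mem_of_mem hx hcop ?_
  cases nonempty_fintype A
  set v : V := ⟨x, hx⟩
  have h1 : v ^ Nat.card A = conjProd hAV v * ∏ a : A, v * (conjAut hAV a v)⁻¹ := by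
    rw [Finset.prod_mul_distrib, Finset.prod_const, Finset.card_univ, Finset.prod_inv_distrib,
      ← conjProd_apply, Nat.card_eq_fintype_card, mul_comm, mul_assoc, inv_mul_cancel, mul_one]
  have h2 : x ^ Nat.card A = ((v ^ Nat.card A : V) : G) := rfl
  rw [h2, h1, Subgroup.coe_mul]
  refine Subgroup.mul_mem _ (Subgroup.mem_sup_left (conjProd_mem_centralizer hAV v))
    (Subgroup.mem_sup_right ?_)
  refine Subgroup.mem_subgroupOf.1 (Subgroup.prod_mem (⁅V, A⁆.subgroupOf V) fun a _ => ?_)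
  have : ((v * (conjAut hAV a v)⁻¹ : V) : G) = ⁅x, (a : G)⁆ := by
    rw [Subgroup.coe_mul, Subgroup.coe_inv, coe_conjAut, commutatorElement_def]
    simp [v, mul_assoc]
  rw [Subgroup.mem_subgroupOf, this]
  exact Subgroup.commutator_mem_commutator hx a.2

theorem abelian_trivial_of_prime_order [Finite G] {A V : Subgroup G} [IsMulCommutative V]
    (hAV : A ≤ Subgroup.normalizer (V : Set G)) (hcop : (Nat.card A).Coprime (Nat.card V))
    (hΩ : ∀ v ∈ V, (orderOf v).Prime → ∀ a ∈ A, a * v = v * a) :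
    A ≤ Subgroup.centralizer (V : Set G) := by
  suffices h : ⁅V, A⁆ = ⊥ by
    rw [Subgroup.commutator_comm] at h
    exact Subgroup.commutator_eq_bot_iff_le_centralizer.1 h
  by_contra h
  obtain ⟨q, hq, hqd⟩ := Nat.exists_prime_and_dvd (mt Subgroup.card_eq_one.1 h)
  have := Fact.mk hq
  obtain ⟨x, hx⟩ := exists_prime_orderOf_dvd_card' q hqd
  have hxV : (x : G) ∈ V := Subgroup.le_normalizer_iff_commutator_le_left.1 hAV x.2
  have hxo : orderOf (x : G) = q := by rw [Subgroup.orderOf_coe, hx]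
  have hxm : (x : G) ∈ (V ⊓ Subgroup.centralizer (A : Set G)) ⊓ ⁅V, A⁆ :=
    ⟨⟨hxV, hΩ _ hxV (hxo.symm ▸ hq)⟩, x.2⟩
  rw [abelian_inf_eq_bot hAV hcop, Subgroup.mem_bot] at hxm
  rw [hxm, orderOf_one] at hxo
  exact hq.ne_one hxo.symm

/-- Maschke: an invariant complemented subgroup of an abelian group has an invariant complement. -/
theorem exists_invariant_complement [Finite G] {A V : Subgroup G} [IsMulCommutative V]
    (hAV : A ≤ Subgroup.normalizer (V : Set G)) (hcop : (Nat.card A).Coprime (Nat.card V))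
    {U W : Subgroup G} (hUV : U ≤ V) (hAU : A ≤ Subgroup.normalizer (U : Set G)) (hWV : W ≤ V)
    (hUW : U ⊓ W = ⊥) (hUWV : U ⊔ W = V) :
    ∃ W' : Subgroup G, W' ≤ V ∧ A ≤ Subgroup.normalizer (W' : Set G) ∧
      U ⊓ W' = ⊥ ∧ U ⊔ W' = V := by
  cases nonempty_fintype A
  let φ : U × W →* V := (Subgroup.inclusion hUV).coprod (Subgroup.inclusion hWV)
  have hφ : Function.Bijective φ := by
    constructor
    · intro p q h
      exact Subgroup.mul_injective_of_disjoint (disjoint_iff.2 hUW) (congrArg Subtype.val h)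
    · intro v
      have hn : W ≤ Subgroup.normalizer (U : Set G) := by
        intro w hw
        rw [Subgroup.mem_normalizer_iff]
        intro u
        have hc : ∀ y ∈ V, w * y * w⁻¹ = y := fun y hy => by
          rw [mul_inv_eq_iff_eq_mul]
          exact setLike_mul_comm (hWV hw) hy
        refine ⟨fun hu => (hc u (hUV hu)).symm ▸ hu, fun hu => ?_⟩
        have : u ∈ V := by
          have := V.mul_mem (V.mul_mem (V.inv_mem (hWV hw)) (hUV hu)) (hWV hw)
          group at this; simpa using this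
        rwa [hc u this] at hu
      have hv : (v : G) ∈ U ⊔ W := hUWV.symm ▸ v.2
      rw [← SetLike.mem_coe, Subgroup.coe_mul_of_right_le_normalizer_left U W hn] at hv
      obtain ⟨u, hu, w, hw, h⟩ := hv
      exact ⟨(⟨u, hu⟩, ⟨w, hw⟩), Subtype.ext h⟩
  let e : U × W ≃* V := MulEquiv.ofBijective φ hφ
  let π : V →* V := (Subgroup.inclusion hUV).comp ((MonoidHom.fst U W).comp e.symm.toMonoidHom)
  have hπU : ∀ v : V, (π v : G) ∈ U := fun v => (e.symm v).1.2
  have hπid : ∀ v : V, (v : G) ∈ U → π v = v := fun v hv => by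
    have : e.symm v = (⟨v, hv⟩, 1) := by
      rw [MulEquiv.symm_apply_eq]
      exact Subtype.ext (by simp [e, φ])
    apply Subtype.ext
    show ((e.symm v).1 : G) = v
    rw [this]
  let π' : V →* V :=
    ∏ a : A, (conjAut hAV a).toMonoidHom.comp (π.comp (conjAut hAV a⁻¹).toMonoidHom)
  have hπ' : ∀ v, π' v = ∏ a : A, conjAut hAV a (π (conjAut hAV a⁻¹ v)) := fun v => by
    simp [π', MonoidHom.finsetProd_apply]
  have hπ'U : ∀ v, (π' v : G) ∈ U := fun v => by
    rw [hπ']
    refine Subgroup.mem_subgroupOf.1 (Subgroup.prod_mem (U.subgroupOf V) fun a _ => ?_)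
    exact (Subgroup.mem_normalizer_iff.1 (hAU a.2) _).1 (hπU _)
  have hπ'id : ∀ v : V, (v : G) ∈ U → π' v = v ^ Nat.card A := fun v hv => by
    rw [hπ', Nat.card_eq_fintype_card, ← Finset.card_univ, ← Finset.prod_const]
    refine Finset.prod_congr rfl fun a _ => ?_
    rw [hπid _ ((Subgroup.mem_normalizer_iff.1 (hAU (A.inv_mem a.2)) _).1 hv), map_inv,
      MulAut.apply_inv_self]
  refine ⟨π'.ker.map V.subtype, Subgroup.map_subtype_le _, ?_, ?_, ?_⟩
  · have key : ∀ b ∈ A, ∀ x ∈ π'.ker.map V.subtype, b * x * b⁻¹ ∈ π'.ker.map V.subtype := by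
      rintro b hb _ ⟨v, hv, rfl⟩
      refine ⟨conjAut hAV ⟨b, hb⟩ v, ?_, rfl⟩
      rw [SetLike.mem_coe, MonoidHom.mem_ker] at hv ⊢
      have : π' (conjAut hAV ⟨b, hb⟩ v) = conjAut hAV ⟨b, hb⟩ (π' v) := by
        rw [hπ', hπ', map_prod]
        exact Fintype.prod_equiv (Equiv.mulLeft (⟨b, hb⟩ : A)⁻¹) _ _ fun a => by simp
      rw [this, hv, map_one]
    intro a ha
    rw [Subgroup.mem_normalizer_iff]
    intro x
    refine ⟨key a ha x, fun hx => ?_⟩
    have := key a⁻¹ (A.inv_mem ha) _ hx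
    group at this; simpa using this
  · rw [eq_bot_iff]
    rintro x ⟨hxU, v, hv, rfl⟩
    rw [SetLike.mem_coe, MonoidHom.mem_ker, hπ'id v hxU] at hv
    exact mem_of_pow_mem_of_mem (H := ⊥) v.2 hcop (Subgroup.mem_bot.2 (congrArg Subtype.val hv))
  · refine le_antisymm (sup_le hUV (Subgroup.map_subtype_le _)) fun x hx => ?_
    obtain ⟨m, hm⟩ := exists_pow_eq_self_of_coprime (x := π' ⟨x, hx⟩)
      ((hcop.coprime_dvd_right (orderOf_dvd_natCard _)))
    set u : V := π' ⟨x, hx⟩ ^ m
    have hu : (u : G) ∈ U := U.pow_mem (hπ'U _) m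
    have h1 : π' u = π' ⟨x, hx⟩ := by rw [hπ'id u hu, ← pow_mul, mul_comm m, pow_mul, hm]
    have h2 : (x : G) = (u : G) * ((u⁻¹ * ⟨x, hx⟩ : V) : G) := by simp
    rw [h2]
    refine Subgroup.mul_mem_sup hu ⟨u⁻¹ * ⟨x, hx⟩, ?_, rfl⟩
    rw [SetLike.mem_coe, MonoidHom.mem_ker, map_mul, map_inv, h1, inv_mul_cancel]

end Cfsg.Agent.Coprime
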