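import Cfsg.Agent.Lib.Coprime.Basic
import Cfsg.Agent.Lib.Coprime.Abelian

/-!
# Glauberman's lemma and its corollaries

Throughout `A ≤ normalizer K`, `|A|` prime to `|K|`, `A` or `K` solvable.
* `exists_fixed_point`, `exists_mem_centralizer_smul_eq`: Glauberman's lemma for actions
* `exists_mem_centralizer_of_coset` (right cosets), `exists_mem_centralizer_of_coset'` (left)
* `exists_invariant_conj`, `exists_mem_centralizer_conj`: invariant members of a class of subgroups
* `exists_invariant_sylow`, `invariant_sylow_conj`, `exists_invariant_sylow_ge`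
* `commutator_sup_centralizer`, `commutator_commutator_eq`
* `exists_mul_mem_centralizer`: fixed points of a product
-/

set_option autoImplicit false

namespace Cfsg.Agent.Coprime

open scoped Pointwise commutatorElement

variable {G : Type*} [Group G] [Finite G] {A K : Subgroup G}

/-- Glauberman's lemma: `A` has a fixed point in a nonempty `K A`-invariant set on which `K` is
transitive. -/
theorem exists_fixed_point (hAK : A ≤ Subgroup.normalizer (K : Set G))
    (hcop : (Nat.card A).Coprime (Nat.card K)) (hsolv : Group.IsSolvable A ∨ Group.IsSolvable K)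
    {X : Type*} [MulAction G X] (s : Set X) (hs : s.Nonempty)
    (hA : ∀ a ∈ A, ∀ x ∈ s, a • x ∈ s) (hK : ∀ k ∈ K, ∀ x ∈ s, k • x ∈ s)
    (htrans : ∀ x ∈ s, ∀ y ∈ s, ∃ k ∈ K, k • x = y) :
    ∃ x ∈ s, ∀ a ∈ A, a • x = x := by
  obtain ⟨x, hx⟩ := hs
  obtain ⟨n, hn, hnA⟩ := exists_conj_le_of_forall hAK hcop hsolv (MulAction.stabilizer G x)
    (fun a ha => by
      obtain ⟨k, hk, hkx⟩ := htrans _ (hA a ha x hx) x hx
      exact ⟨k, hk, by rw [MulAction.mem_stabilizer_iff, mul_smul, hkx]⟩)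
  refine ⟨n⁻¹ • x, hK _ (K.inv_mem hn) x hx, fun a ha => ?_⟩
  have h1 : n * a * n⁻¹ ∈ MulAction.stabilizer G x := hnA (conj_mem_conj.2 ha)
  rw [MulAction.mem_stabilizer_iff, mul_smul, mul_smul] at h1
  conv_rhs => rw [← h1, inv_smul_smul]

/-- Glauberman's lemma: two fixed points of `A` in one `K`-orbit are in one `C_K(A)`-orbit. -/
theorem exists_mem_centralizer_smul_eq (hAK : A ≤ Subgroup.normalizer (K : Set G))
    (hcop : (Nat.card A).Coprime (Nat.card K)) (hsolv : Group.IsSolvable A ∨ Group.IsSolvable K)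
    {X : Type*} [MulAction G X] {x : X} {k : G} (hk : k ∈ K) (hx : ∀ a ∈ A, a • x = x)
    (hkx : ∀ a ∈ A, a • k • x = k • x) :
    ∃ c ∈ K ⊓ Subgroup.centralizer (A : Set G), c • x = k • x := by
  obtain ⟨m, hm, hkm⟩ := exists_mem_centralizer_mul hAK hcop hsolv (MulAction.stabilizer G x)
    (fun a ha => MulAction.mem_stabilizer_iff.2 (hx a ha)) hk (fun y hy => by
      rw [mem_conj, inv_inv] at hy
      rw [MulAction.mem_stabilizer_iff, ← smul_left_cancel_iff k, ← mul_smul]
      have := hkx _ hy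
      rwa [← mul_smul, inv_mul_cancel_right] at this)
  exact ⟨_, hkm, by rw [mul_smul, MulAction.mem_stabilizer_iff.1 hm.2]⟩

omit [Finite G] in
theorem mem_centralizer_inv {c : G} (h : c ∈ Subgroup.centralizer (A : Set G)) :
    c⁻¹ ∈ Subgroup.centralizer (A : Set G) := inv_mem h

/-- A right coset of `N` fixed by `A` contains a point fixed by `A`. -/
theorem exists_mem_centralizer_of_coset (hAK : A ≤ Subgroup.normalizer (K : Set G))
    (hcop : (Nat.card A).Coprime (Nat.card K)) (hsolv : Group.IsSolvable A ∨ Group.IsSolvable K)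
    {N : Subgroup G} (hNK : N ≤ K) (hNA : A ≤ Subgroup.normalizer (N : Set G))
    {k : G} (hk : k ∈ K) (hfix : ∀ a ∈ A, a * k * a⁻¹ * k⁻¹ ∈ N) :
    ∃ c ∈ K ⊓ Subgroup.centralizer (A : Set G), c * k⁻¹ ∈ N := by
  have hle : MulAut.conj k • A ≤ N ⊔ A := by
    intro x hx
    rw [mem_conj] at hx
    set a := k⁻¹ * x * k with ha
    have h1 : x * a⁻¹ = (a * k * a⁻¹ * k⁻¹)⁻¹ := by rw [ha]; group
    exact (mem_sup_iff hNA).2 ⟨x * a⁻¹, h1 ▸ N.inv_mem (hfix a hx), a, hx, by group⟩
  obtain ⟨n, hn, hnA⟩ := exists_conj_eq_of_le_sup hNA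
    (hcop.coprime_dvd_right (Subgroup.card_dvd_of_le hNK))
    (hsolv.imp id (isSolvable_of_le hNK)) hle (card_conj k A)
  have hc : n⁻¹ * k ∈ K := K.mul_mem (K.inv_mem (hNK hn)) hk
  refine ⟨n⁻¹ * k, ⟨hc, mem_centralizer_of_normalizer hAK hcop hc
    (mem_normalizer_of_conj_eq ?_)⟩, by simpa using N.inv_mem hn⟩
  rw [map_mul, mul_smul, ← hnA, ← mul_smul, ← map_mul, inv_mul_cancel, map_one, one_smul]

/-- A left coset of `N` fixed by `A` contains a point fixed by `A`. -/
theorem exists_mem_centralizer_of_coset' (hAK : A ≤ Subgroup.normalizer (K : Set G))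
    (hcop : (Nat.card A).Coprime (Nat.card K)) (hsolv : Group.IsSolvable A ∨ Group.IsSolvable K)
    {N : Subgroup G} (hNK : N ≤ K) (hNA : A ≤ Subgroup.normalizer (N : Set G))
    {k : G} (hk : k ∈ K) (hfix : ∀ a ∈ A, k⁻¹ * a * k * a⁻¹ ∈ N) :
    ∃ c ∈ K ⊓ Subgroup.centralizer (A : Set G), k⁻¹ * c ∈ N := by
  obtain ⟨c, hc, hcN⟩ := exists_mem_centralizer_of_coset hAK hcop hsolv hNK hNA (K.inv_mem hk)
    (fun a ha => by
      have := N.inv_mem (hfix a ha)
      group at this ⊢
      exact this)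
  exact ⟨c⁻¹, ⟨K.inv_mem hc.1, Subgroup.inv_mem _ hc.2⟩, by simpa using N.inv_mem hcN⟩

/-- If every `A`-conjugate of `P` is a `K`-conjugate, some `K`-conjugate of `P` is `A`-invariant. -/
theorem exists_invariant_conj (hAK : A ≤ Subgroup.normalizer (K : Set G))
    (hcop : (Nat.card A).Coprime (Nat.card K)) (hsolv : Group.IsSolvable A ∨ Group.IsSolvable K)
    {P : Subgroup G} (hP : ∀ a ∈ A, ∃ k ∈ K, MulAut.conj a • P = MulAut.conj k • P) :
    ∃ k ∈ K, A ≤ Subgroup.normalizer ((MulAut.conj k • P : Subgroup G) : Set G) := by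
  obtain ⟨n, hn, hnA⟩ := exists_conj_le_of_forall hAK hcop hsolv (Subgroup.normalizer (P : Set G))
    (fun a ha => by
      obtain ⟨k, hk, hkP⟩ := hP a ha
      exact ⟨k⁻¹, K.inv_mem hk, mem_normalizer_of_conj_eq
        (by rw [map_mul, mul_smul, hkP, ← mul_smul, ← map_mul, inv_mul_cancel, map_one,
          one_smul])⟩)
  refine ⟨n⁻¹, K.inv_mem hn, fun a ha => mem_normalizer_of_conj_eq ?_⟩
  have h1 := conj_eq_of_mem_normalizer (hnA (conj_mem_conj.2 ha : n * a * n⁻¹ ∈ _))
  conv_rhs => rw [← h1]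
  simp only [← mul_smul, ← map_mul]
  congr 2
  group

/-- `A`-invariant `K`-conjugate subgroups are conjugate under `C_K(A)`. -/
theorem exists_mem_centralizer_conj (hAK : A ≤ Subgroup.normalizer (K : Set G))
    (hcop : (Nat.card A).Coprime (Nat.card K)) (hsolv : Group.IsSolvable A ∨ Group.IsSolvable K)
    {P : Subgroup G} {k : G} (hk : k ∈ K) (hP : A ≤ Subgroup.normalizer (P : Set G))
    (hkP : A ≤ Subgroup.normalizer ((MulAut.conj k • P : Subgroup G) : Set G)) :
    ∃ c ∈ K ⊓ Subgroup.centralizer (A : Set G), MulAut.conj c • P = MulAut.conj k • P := by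
  obtain ⟨m, hm, hkm⟩ := exists_mem_centralizer_mul hAK hcop hsolv
    (Subgroup.normalizer (P : Set G)) hP hk (fun y hy => by
      rw [mem_conj, inv_inv] at hy
      have h1 := conj_eq_of_mem_normalizer (hkP hy)
      refine mem_normalizer_of_conj_eq ((smul_left_cancel_iff (MulAut.conj k)).1 ?_)
      conv_rhs => rw [← h1]
      simp only [← mul_smul, ← map_mul]
      congr 2
      group)
  exact ⟨_, hkm, by rw [map_mul, mul_smul, conj_eq_of_mem_normalizer hm.2]⟩

omit [Finite G] in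
theorem map_subtype_smul {p : ℕ} (k : K) (P : Sylow p K) :
    ((k • P : Sylow p K) : Subgroup K).map K.subtype =
      MulAut.conj (k : G) • (P : Subgroup K).map K.subtype := by
  show (MulAut.conj k • (P : Subgroup K)).map K.subtype = _
  ext x
  constructor
  · rintro ⟨y, hy, rfl⟩
    obtain ⟨z, hz, rfl⟩ := hy
    exact ⟨z, ⟨z, hz, rfl⟩, rfl⟩
  · rintro ⟨_, ⟨z, hz, rfl⟩, rfl⟩
    exact ⟨_, ⟨z, hz, rfl⟩, rfl⟩

theorem exists_sylow_conj_eq {p : ℕ} [Fact p.Prime] {g : G}
    (hg : g ∈ Subgroup.normalizer (K : Set G)) (P : Sylow p K) :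
    ∃ Q : Sylow p K, (Q : Subgroup K).map K.subtype =
      MulAut.conj g • (P : Subgroup K).map K.subtype := by
  set φ : MulAut K := K.normalizerMonoidHom ⟨g, hg⟩
  refine ⟨Sylow.ofCard ((P : Subgroup K).map φ.toMonoidHom) ?_, ?_⟩
  · exact (Subgroup.card_map_of_injective φ.injective).trans P.card_eq_multiplicity
  · show ((P : Subgroup K).map φ.toMonoidHom).map K.subtype = _
    ext x
    constructor
    · rintro ⟨y, hy, rfl⟩
      obtain ⟨z, hz, rfl⟩ := hy
      exact ⟨z, ⟨z, hz, rfl⟩, rfl⟩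
    · rintro ⟨_, ⟨z, hz, rfl⟩, rfl⟩
      exact ⟨_, ⟨z, hz, rfl⟩, rfl⟩

theorem exists_invariant_sylow (hAK : A ≤ Subgroup.normalizer (K : Set G))
    (hcop : (Nat.card A).Coprime (Nat.card K)) (hsolv : Group.IsSolvable A ∨ Group.IsSolvable K)
    (p : ℕ) [Fact p.Prime] :
    ∃ P : Sylow p K, A ≤ Subgroup.normalizer ((P : Subgroup K).map K.subtype : Set G) := by
  obtain ⟨P⟩ := (inferInstance : Nonempty (Sylow p K))
  obtain ⟨k, hk, h⟩ := exists_invariant_conj hAK hcop hsolv
    (P := (P : Subgroup K).map K.subtype) (fun a ha => by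
      obtain ⟨Q, hQ⟩ := exists_sylow_conj_eq (hAK ha) P
      obtain ⟨k, hk⟩ := MulAction.exists_smul_eq K P Q
      exact ⟨k, k.2, by rw [← hQ, ← hk, map_subtype_smul]⟩)
  exact ⟨(⟨k, hk⟩ : K) • P, by rwa [map_subtype_smul]⟩

theorem invariant_sylow_conj (hAK : A ≤ Subgroup.normalizer (K : Set G))
    (hcop : (Nat.card A).Coprime (Nat.card K)) (hsolv : Group.IsSolvable A ∨ Group.IsSolvable K)
    {p : ℕ} [Fact p.Prime] (P Q : Sylow p K)
    (hP : A ≤ Subgroup.normalizer ((P : Subgroup K).map K.subtype : Set G))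
    (hQ : A ≤ Subgroup.normalizer ((Q : Subgroup K).map K.subtype : Set G)) :
    ∃ c : K, (c : G) ∈ Subgroup.centralizer (A : Set G) ∧ c • P = Q := by
  obtain ⟨k, rfl⟩ := MulAction.exists_smul_eq K P Q
  rw [map_subtype_smul] at hQ
  obtain ⟨c, hc, hcP⟩ := exists_mem_centralizer_conj hAK hcop hsolv k.2 hP hQ
  refine ⟨⟨c, hc.1⟩, hc.2, Sylow.ext (Subgroup.map_injective K.subtype_injective ?_)⟩
  rw [map_subtype_smul, map_subtype_smul, hcP]

/-- An `A`-invariant `p`-subgroup of `K` lies in an `A`-invariant Sylow `p`-subgroup of `K`. -/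
theorem exists_invariant_sylow_ge (hAK : A ≤ Subgroup.normalizer (K : Set G))
    (hcop : (Nat.card A).Coprime (Nat.card K)) (hsolv : Group.IsSolvable A ∨ Group.IsSolvable K)
    {p : ℕ} [Fact p.Prime] {U : Subgroup G} (hUK : U ≤ K) (hU : IsPGroup p U)
    (hUA : A ≤ Subgroup.normalizer (U : Set G)) :
    ∃ P : Sylow p K, U ≤ (P : Subgroup K).map K.subtype ∧
      A ≤ Subgroup.normalizer ((P : Subgroup K).map K.subtype : Set G) := by
  have : ({V : Subgroup G | U ≤ V ∧ V ≤ K ∧ IsPGroup p V ∧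
      A ≤ Subgroup.normalizer (V : Set G)}).Nonempty := ⟨U, le_rfl, hUK, hU, hUA⟩
  obtain ⟨V, ⟨hUV, hVK, hV, hVA⟩, hmax⟩ := (Set.toFinite _).exists_maximal this
  set M : Subgroup G := K ⊓ Subgroup.normalizer (V : Set G) with hM
  have hAM : A ≤ Subgroup.normalizer (M : Set G) := fun a ha => by
    refine mem_normalizer_of_forall fun x hx => ⟨?_, ?_⟩
    · exact (Subgroup.mem_normalizer_iff.1 (hAK ha) x).1 hx.1
    · exact (Subgroup.normalizer (V : Set G)).mul_mem
        (Subgroup.mul_mem _ (hVA ha) hx.2) (Subgroup.inv_mem _ (hVA ha))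
  obtain ⟨Q, hQA⟩ := exists_invariant_sylow hAM
    (hcop.coprime_dvd_right (Subgroup.card_dvd_of_le inf_le_left))
    (hsolv.imp id (isSolvable_of_le inf_le_left)) p
  set V' : Subgroup G := (Q : Subgroup M).map M.subtype with hV'
  have hVM : V ≤ M := le_inf hVK Subgroup.le_normalizer
  have hVQ : V ≤ V' := by
    have hn : (V.subgroupOf M).Normal :=
      Subgroup.normal_subgroupOf_of_le_normalizer inf_le_right
    have hp : IsPGroup p (V.subgroupOf M) :=
      hV.of_equiv (Subgroup.subgroupOfEquivOfLe hVM).symm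
    have := Subgroup.map_mono (f := M.subtype) (hp.le_sylow_of_normal Q)
    rwa [Subgroup.subgroupOf_map_subtype, inf_eq_left.2 hVM] at this
  have hV'K : V' ≤ K := (Subgroup.map_subtype_le _).trans inf_le_left
  have hle : V' ≤ V := hmax ⟨hUV.trans hVQ, hV'K, Q.2.map _, hQA⟩ hVQ
  have hpK : IsPGroup p (V.subgroupOf K) := hV.of_equiv (Subgroup.subgroupOfEquivOfLe hVK).symm
  obtain ⟨R, hR⟩ := hpK.exists_le_sylow
  refine ⟨R, ?_, ?_⟩
  · have := Subgroup.map_mono (f := K.subtype) hR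
    rw [Subgroup.subgroupOf_map_subtype, inf_eq_left.2 hVK] at this
    exact hUV.trans this
  suffices h : V.subgroupOf K = R by
    rw [← h, Subgroup.subgroupOf_map_subtype, inf_eq_left.2 hVK]
    exact hVA
  refine le_antisymm hR ?_
  by_contra hne
  have hlt : V.subgroupOf K < R := lt_of_le_not_ge hR hne
  -- normalisers grow in the `p`-group `R`
  have := Group.normalizerCondition_of_isNilpotent (G := R) (h := R.2.isNilpotent)
    ((V.subgroupOf K).subgroupOf R) ?_
  · obtain ⟨r, hr, hrV⟩ := SetLike.exists_of_lt this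
    have hrN : ((r : K) : G) ∈ M := ⟨(r : K).2, mem_normalizer_of_forall fun x hx => by
      have h1 := (Subgroup.mem_normalizer_iff.1 hr ⟨⟨x, hVK hx⟩, hR hx⟩).1 hx
      exact h1⟩
    -- the `p`-subgroup `V ⟨r⟩` lies in a Sylow subgroup of `M`, of the order of `V`
    set W : Subgroup G := (Subgroup.map K.subtype R) ⊓ M with hW
    have hWp : IsPGroup p (W.subgroupOf M) :=
      ((R.2.map K.subtype).to_le inf_le_left).of_equiv
        (Subgroup.subgroupOfEquivOfLe (inf_le_right : W ≤ M)).symm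
    obtain ⟨T, hT⟩ := hWp.exists_le_sylow
    have hVW : V ≤ W := le_inf (by
      have := Subgroup.map_mono (f := K.subtype) hR
      rwa [Subgroup.subgroupOf_map_subtype, inf_eq_left.2 hVK] at this) hVM
    have hcT : Nat.card (W.subgroupOf M) ≤ Nat.card (Q : Subgroup M) := by
      rw [Q.card_eq_multiplicity, ← T.card_eq_multiplicity]
      exact Nat.le_of_dvd Nat.card_pos (Subgroup.card_dvd_of_le hT)
    rw [Nat.card_congr (Subgroup.subgroupOfEquivOfLe (inf_le_right : W ≤ M)).toEquiv,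
      ← Subgroup.card_map_of_injective (K := (Q : Subgroup M)) M.subtype_injective] at hcT
    have hWV : V = W :=
      Subgroup.eq_of_le_of_card_ge hVW (hcT.trans (Subgroup.card_le_of_le hle))
    have : ((r : K) : G) ∈ W := ⟨⟨_, r.2, rfl⟩, hrN⟩
    rw [← hWV] at this
    exact hrV this
  · rw [lt_top_iff_ne_top, Ne, Subgroup.subgroupOf_eq_top]
    exact hne

omit [Finite G] in
theorem commutator_le_left' (hAK : A ≤ Subgroup.normalizer (K : Set G)) : ⁅K, A⁆ ≤ K :=
  Subgroup.le_normalizer_iff_commutator_le_left.1 hAK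

/-- `K = [K, A] C_K(A)`. -/
theorem commutator_sup_centralizer (hAK : A ≤ Subgroup.normalizer (K : Set G))
    (hcop : (Nat.card A).Coprime (Nat.card K)) (hsolv : Group.IsSolvable A ∨ Group.IsSolvable K) :
    ⁅K, A⁆ ⊔ (K ⊓ Subgroup.centralizer (A : Set G)) = K := by
  refine le_antisymm (sup_le (commutator_le_left' hAK) inf_le_left) fun k hk => ?_
  obtain ⟨c, hc, hck⟩ := exists_mem_centralizer_of_coset hAK hcop hsolv
    (commutator_le_left' hAK) (Subgroup.normalizer_commutator_ge_right K A) hk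
    (fun a ha => by
      rw [Subgroup.commutator_comm]
      exact Subgroup.commutator_mem_commutator ha hk)
  have h1 : k = (c * k⁻¹)⁻¹ * c := by group
  rw [h1]
  exact Subgroup.mul_mem_sup (inv_mem hck) hc

/-- `[K, A, A] = [K, A]`. -/
theorem commutator_commutator_eq (hAK : A ≤ Subgroup.normalizer (K : Set G))
    (hcop : (Nat.card A).Coprime (Nat.card K)) (hsolv : Group.IsSolvable A ∨ Group.IsSolvable K) :
    ⁅⁅K, A⁆, A⁆ = ⁅K, A⁆ := by
  refine le_antisymm (Subgroup.commutator_mono (commutator_le_left' hAK) le_rfl) ?_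
  rw [Subgroup.commutator_le]
  intro k hk a ha
  obtain ⟨c, hc, hck⟩ := exists_mem_centralizer_of_coset hAK hcop hsolv
    (commutator_le_left' hAK) (Subgroup.normalizer_commutator_ge_right K A) hk
    (fun a ha => by
      rw [Subgroup.commutator_comm]
      exact Subgroup.commutator_mem_commutator ha hk)
  have hk1 : k * c⁻¹ ∈ ⁅K, A⁆ := by simpa using inv_mem hck
  have h1 : ⁅k, a⁆ = ⁅k * c⁻¹, a⁆ := by
    have hca : a * c = c * a := hc.2 a ha
    have h2 : c * a * c⁻¹ = a := by rw [← hca]; group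
    simp only [commutatorElement_def]
    calc k * a * k⁻¹ * a⁻¹ = k * c⁻¹ * (c * a * c⁻¹) * (k * c⁻¹)⁻¹ * a⁻¹ := by group
      _ = _ := by rw [h2]
  rw [h1]
  exact Subgroup.commutator_mem_commutator hk1 ha

/-- A fixed point of a product of invariant subgroups is a product of fixed points. -/
theorem exists_mul_mem_centralizer (hAK : A ≤ Subgroup.normalizer (K : Set G))
    (hcop : (Nat.card A).Coprime (Nat.card K)) (hsolv : Group.IsSolvable A ∨ Group.IsSolvable K)
    {X Y : Subgroup G} (hX : X ≤ K)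
    (hXA : A ≤ Subgroup.normalizer (X : Set G)) (hYA : A ≤ Subgroup.normalizer (Y : Set G))
    {x y : G} (hx : x ∈ X) (hy : y ∈ Y)
    (hxy : x * y ∈ Subgroup.centralizer (A : Set G)) :
    ∃ x' ∈ X ⊓ Subgroup.centralizer (A : Set G), ∃ y' ∈ Y ⊓ Subgroup.centralizer (A : Set G),
      x * y = x' * y' := by
  have hfix : ∀ a ∈ A, x⁻¹ * a * x * a⁻¹ ∈ X ⊓ Y := fun a ha => by
    refine ⟨?_, ?_⟩
    · simpa [mul_assoc] using
        X.mul_mem (X.inv_mem hx) ((Subgroup.mem_normalizer_iff.1 (hXA ha) x).1 hx)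
    · have h2 : a * (x * y) = x * y * a := hxy a ha
      have h1 : x⁻¹ * a * x * a⁻¹ = y * (a * y * a⁻¹)⁻¹ := by
        calc x⁻¹ * a * x * a⁻¹ = x⁻¹ * (a * (x * y)) * y⁻¹ * a⁻¹ := by group
          _ = x⁻¹ * (x * y * a) * y⁻¹ * a⁻¹ := by rw [h2]
          _ = _ := by group
      rw [h1]
      exact Y.mul_mem hy (Y.inv_mem ((Subgroup.mem_normalizer_iff.1 (hYA ha) y).1 hy))
  obtain ⟨c, hc, hcx⟩ := exists_mem_centralizer_of_coset'
    (K := X) hXA (hcop.coprime_dvd_right (Subgroup.card_dvd_of_le hX))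
    (hsolv.imp id (isSolvable_of_le hX)) (N := X ⊓ Y) inf_le_left
    (fun a ha => mem_normalizer_of_forall fun z hz =>
      ⟨(Subgroup.mem_normalizer_iff.1 (hXA ha) z).1 hz.1,
        (Subgroup.mem_normalizer_iff.1 (hYA ha) z).1 hz.2⟩)
    hx hfix
  refine ⟨c, ⟨hc.1, hc.2⟩, c⁻¹ * (x * y),
    ⟨?_, Subgroup.mul_mem _ (Subgroup.inv_mem _ hc.2) hxy⟩, by group⟩
  have h1 : c⁻¹ * (x * y) = (x⁻¹ * c)⁻¹ * y := by group
  rw [h1]
  exact Y.mul_mem (Y.inv_mem hcx.2) hy

end Cfsg.Agent.Coprime
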