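import Cfsg.Agent.EqLemmas

/-!
# Coprime action trivial on the Frattini quotient

* `eq_top_of_meets_frattini_cosets`: `H = ⊤` if a subgroup meets every Frattini coset
* `le_centralizer_of_forall_mem_frattini`: if `A` acts trivially on `K / Φ(K)` and `|A|` is
  prime to `|Φ(K)|` then `A` centralises `K` (no solvability needed)
-/

set_option autoImplicit false

namespace Cfsg.Agent.Coprime

variable {G : Type*} [Group G]

theorem eq_top_of_meets_frattini_cosets [Finite G] {H : Subgroup G}
    (h : ∀ g : G, ∃ x ∈ H, g⁻¹ * x ∈ frattini G) : H = ⊤ := by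
  refine frattini_nongenerating (eq_top_iff.2 fun g _ => ?_)
  obtain ⟨x, hx, hg⟩ := h g
  have h2 := (H ⊔ frattini G).mul_mem (Subgroup.mem_sup_left hx)
    (Subgroup.mem_sup_right ((frattini G).inv_mem hg))
  simpa [mul_assoc] using h2

/-- An action trivial on the Frattini quotient and coprime on the Frattini subgroup is trivial. -/
theorem le_centralizer_of_forall_mem_frattini [Finite G] {A K : Subgroup G}
    (hAK : A ≤ Subgroup.normalizer (K : Set G))
    (hcop : (Nat.card A).Coprime (Nat.card (frattini K)))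
    (htriv : ∀ a ∈ A, ∀ k ∈ K, a * k * a⁻¹ * k⁻¹ ∈ (frattini K).map K.subtype) :
    A ≤ Subgroup.centralizer (K : Set G) := by
  set c : A →* MulAut K := K.normalizerMonoidHom.comp (Subgroup.inclusion hAK) with hc
  have hmem : ∀ (a : A) (x : K), x⁻¹ * c a x ∈ frattini K := fun a x => by
    obtain ⟨y, hy, hyx⟩ := htriv a a.2 x x.2
    have h1 : y = c a x * x⁻¹ := Subtype.ext hyx
    have hn : (frattini K).Normal := inferInstance
    exact hn.mem_comm (h1 ▸ hy)
  let T := {f : K → K // ∀ x, x⁻¹ * f x ∈ frattini K}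
  let inst : MulAction A T :=
    { smul := fun a f => ⟨fun x => c a (f.1 x), fun x => by
        have h1 := (frattini K).mul_mem (f.2 x) (hmem a (f.1 x))
        simpa [mul_assoc] using h1⟩
      one_smul := fun f => Subtype.ext (funext fun x => by show c 1 (f.1 x) = f.1 x; simp)
      mul_smul := fun a b f => Subtype.ext (funext fun x => by
        show c (a * b) (f.1 x) = c a (c b (f.1 x)); simp) }
  have hT : Nat.card T = Nat.card (frattini K) ^ Nat.card K := by
    rw [← Nat.card_fun]
    refine Nat.card_congr ⟨fun f x => ⟨x⁻¹ * f.1 x, f.2 x⟩,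
      fun g => ⟨fun x => x * g x, fun x => by simp⟩, fun f => ?_, fun g => ?_⟩
    · exact Subtype.ext (funext fun x => by simp)
    · exact funext fun x => Subtype.ext (by simp)
  set C : Subgroup A := (Subgroup.centralizer (K : Set G)).subgroupOf A with hCdef
  have hstab : ∀ f : T, MulAction.stabilizer A f = C := fun f => by
    ext a
    rw [MulAction.mem_stabilizer_iff, hCdef, Subgroup.mem_subgroupOf]
    constructor
    · intro ha
      let F : Subgroup K := (c a).toMonoidHom.eqLocus (MonoidHom.id K)
      have hF : F = ⊤ := eq_top_of_meets_frattini_cosets fun x =>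
        ⟨f.1 x, congrFun (congrArg Subtype.val ha) x, f.2 x⟩
      intro k hk
      have h1 : c a ⟨k, hk⟩ = ⟨k, hk⟩ := (hF ▸ Subgroup.mem_top _ : (⟨k, hk⟩ : K) ∈ F)
      have h2 : (a : G) * k * (a : G)⁻¹ = k := congrArg Subtype.val h1
      exact (mul_inv_eq_iff_eq_mul.1 h2).symm
    · intro ha
      refine Subtype.ext (funext fun x => Subtype.ext ?_)
      show (a : G) * (f.1 x : G) * (a : G)⁻¹ = f.1 x
      rw [mul_inv_eq_iff_eq_mul]
      exact (ha _ (f.1 x).2).symm
  have hdvd : C.index ∣ Nat.card T := by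
    cases nonempty_fintype (MulAction.orbitRel.Quotient A T)
    rw [Nat.card_congr (MulAction.selfEquivSigmaOrbits A T), Nat.card_sigma]
    refine Finset.dvd_sum fun i _ => dvd_of_eq ?_
    rw [← hstab i.out, MulAction.index_stabilizer, Nat.card_coe_set_eq]
  rw [hT] at hdvd
  have h1 : C.index = 1 :=
    Nat.eq_one_of_dvd_coprimes (hcop.pow_right _) (C.index_dvd_card) hdvd
  exact fun a ha => (Subgroup.index_eq_one.1 h1 ▸ Subgroup.mem_top _ : (⟨a, ha⟩ : A) ∈ C)

end Cfsg.Agent.Coprime
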