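import Cfsg.Agent.Lib.Coprime.Invariant
import Cfsg.Agent.Lib.PGroup.Basic

/-!
# Generation by centralisers of a noncyclic abelian group acting coprimely

* `le_of_invariant_sylow_le`: `K` is generated by its invariant Sylow subgroups
* `le_of_pair`: `K` is generated by the `C_K(a ^ i * b ^ j)`, `(i, j)` nonzero mod `p`
* `exists_pair_of_noncyclic_mod`
* `le_of_cyclic_quotient`: `K` is generated by the `C_K(B)`, `A / B` cyclic
* `le_of_noncyclic`: `K` is generated by the `C_K(a)`, `a ≠ 1`, if `A` is noncyclic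
* `relIndex_le_of_cyclic_quotient`
-/

set_option autoImplicit false

namespace Cfsg.Agent.Coprime

open scoped Pointwise commutatorElement IsMulCommutative

/-- Two commuting automorphisms of exponent `p` of an abelian group. -/
theorem pow_mem_of_pair_aut {V : Type*} [CommGroup V] (s t : MulAut V) (hst : Commute s t)
    {p : ℕ} (hp : p.Prime) (hs : s ^ p = 1) (ht : t ^ p = 1) (W : Subgroup V)
    (hW : ∀ i j : ℕ, ¬(p ∣ i ∧ p ∣ j) → ∀ v : V, (s ^ i * t ^ j) v = v → v ∈ W) (v : V) :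
    v ^ p ∈ W := by
  have key : ∀ (u : MulAut V), u ^ p = 1 → ∀ w : V,
      u (∏ j ∈ Finset.range p, (u ^ j) w) = ∏ j ∈ Finset.range p, (u ^ j) w := by
    intro u hu w
    rw [map_prod]
    have h1 : ∀ j, u ((u ^ j) w) = (u ^ (j + 1)) w := fun j => by
      rw [pow_succ', MulAut.mul_apply]
    simp_rw [h1]
    have h2 := Finset.prod_range_succ' (fun j => (u ^ j) w) p
    rw [Finset.prod_range_succ, hu, pow_zero] at h2
    exact (mul_right_cancel h2).symm
  have h1 : ∏ i ∈ Finset.range p, ∏ j ∈ Finset.range p, ((s ^ i * t) ^ j) v ∈ W := by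
    refine Subgroup.prod_mem W fun i _ => hW i 1 (fun h => hp.not_dvd_one h.2) _ ?_
    rw [pow_one]
    refine key _ ?_ v
    rw [(hst.pow_left i).mul_pow, ← pow_mul, mul_comm, pow_mul, hs, one_pow, ht, one_mul]
  rw [Finset.prod_comm] at h1
  obtain ⟨m, hm⟩ : ∃ m, p = m + 1 := ⟨p - 1, by have := hp.pos; omega⟩
  subst hm
  rw [Finset.prod_range_succ'] at h1
  have h2 : ∏ k ∈ Finset.range m, ∏ i ∈ Finset.range (m + 1), ((s ^ i * t) ^ (k + 1)) v ∈ W := by
    refine Subgroup.prod_mem W fun k hk => ?_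
    have hnd : ¬ (m + 1) ∣ (k + 1) := fun h => by
      have := Nat.le_of_dvd (Nat.succ_pos k) h
      have := Finset.mem_range.1 hk
      omega
    refine hW (k + 1) 0 (fun h => hnd h.1) _ ?_
    have h3 : ∀ i, ((s ^ i * t) ^ (k + 1)) v = ((s ^ (k + 1)) ^ i) ((t ^ (k + 1)) v) := fun i => by
      rw [(hst.pow_left i).mul_pow, MulAut.mul_apply, ← pow_mul, ← pow_mul, mul_comm i]
    simp_rw [h3, pow_zero, mul_one]
    exact key _ (by rw [← pow_mul, mul_comm, pow_mul, hs, one_pow]) _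
  have h4 := (W.mul_mem_cancel_left h2).1 h1
  simpa using h4

variable {G : Type*} [Group G]

/-- A noncyclic quotient of a finite abelian group contains two independent elements of prime
order. -/
theorem exists_pair_of_noncyclic_mod [Finite G] (A B : Subgroup G) [IsMulCommutative A]
    (hBA : B ≤ A) (h : ∀ g ∈ A, ¬ A ≤ B ⊔ Subgroup.zpowers g) :
    ∃ p, p.Prime ∧ ∃ a ∈ A, ∃ b ∈ A, a ^ p ∈ B ∧ b ^ p ∈ B ∧
      ∀ i j : ℕ, a ^ i * b ^ j ∈ B → p ∣ i ∧ p ∣ j := by
  set π := QuotientGroup.mk' (B.subgroupOf A) with hπdef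
  have hπ : ∀ x : A, π x = 1 ↔ (x : G) ∈ B := fun x => by
    rw [hπdef, QuotientGroup.mk'_apply, QuotientGroup.eq_one_iff, Subgroup.mem_subgroupOf]
  obtain ⟨g, hg⟩ := Monoid.exists_orderOf_eq_exponent
    (Monoid.ExponentExists.of_finite (G := A ⧸ B.subgroupOf A))
  obtain ⟨g, rfl⟩ := QuotientGroup.mk'_surjective _ g
  set Z := Subgroup.zpowers (π g) with hZ
  have hne : Z ≠ ⊤ := by
    intro htop
    refine h g g.2 fun x hx => ?_
    obtain ⟨k, hk⟩ := (htop ▸ Subgroup.mem_top _ : π ⟨x, hx⟩ ∈ Z)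
    replace hk : π g ^ k = π ⟨x, hx⟩ := hk
    have h1 : π ((g ^ k)⁻¹ * ⟨x, hx⟩) = 1 := by
      rw [map_mul, map_inv, map_zpow, hk, inv_mul_cancel]
    have h2 := (hπ _).1 h1
    simp only [Subgroup.coe_mul, Subgroup.coe_inv, Subgroup.coe_zpow] at h2
    have h3 : x = (g : G) ^ k * (((g : G) ^ k)⁻¹ * x) := by group
    rw [h3]
    exact Subgroup.mul_mem _ (Subgroup.mem_sup_right (Subgroup.zpow_mem_zpowers _ k))
      (Subgroup.mem_sup_left h2)
  obtain ⟨p, hp, hpd⟩ := Nat.exists_prime_and_dvd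
    (n := Z.index) (mt Subgroup.index_eq_one.1 hne)
  have := Fact.mk hp
  obtain ⟨w, hw⟩ := exists_prime_orderOf_dvd_card' (G := (A ⧸ B.subgroupOf A) ⧸ Z) p
    (by rwa [← Subgroup.index_eq_card])
  obtain ⟨w, rfl⟩ := QuotientGroup.mk'_surjective Z w
  have hwZ : w ∉ Z := fun h1 => by
    rw [(QuotientGroup.eq_one_iff w).2 h1 |> fun e => (e : QuotientGroup.mk' Z w = 1),
      orderOf_one] at hw
    exact hp.ne_one hw.symm
  have hwp : w ^ p ∈ Z := by
    rw [← QuotientGroup.eq_one_iff, QuotientGroup.mk_pow, ← hw]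
    exact pow_orderOf_eq_one _
  obtain ⟨m, hm⟩ := mem_powers_iff_mem_zpowers.2 hwp
  replace hm : π g ^ m = w ^ p := hm
  set e := Monoid.exponent (A ⧸ B.subgroupOf A)
  have hpe : p ∣ e := by
    by_contra hpe
    obtain ⟨l, hl⟩ := exists_pow_eq_self_of_coprime (x := w) (n := p)
      ((Nat.Prime.coprime_iff_not_dvd hp).2 fun hd =>
        hpe (hd.trans (Monoid.order_dvd_exponent w)))
    exact hwZ (hl ▸ Z.pow_mem hwp l)
  obtain ⟨e', he'⟩ := hpe
  have hg' : orderOf (π g) = p * e' := hg.trans he'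
  have hmdiv : p ∣ m := by
    have h1 : π g ^ (m * e') = 1 := by
      rw [pow_mul, hm, ← pow_mul, ← he', Monoid.pow_exponent_eq_one]
    have h2 := orderOf_dvd_of_pow_eq_one h1
    rw [hg'] at h2
    have he'0 : 0 < e' := Nat.pos_of_ne_zero fun h0 =>
      Monoid.exponent_ne_zero_of_finite (G := A ⧸ B.subgroupOf A) (by
        show e = 0
        rw [he', h0, mul_zero])
    exact Nat.dvd_of_mul_dvd_mul_right he'0 h2
  obtain ⟨m', rfl⟩ := hmdiv
  set h' := w * ((π g) ^ m')⁻¹ with hh'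
  have hh'p : h' ^ p = 1 := by
    rw [hh', mul_pow, inv_pow, ← pow_mul, mul_comm m', hm, mul_inv_cancel]
  have hh'Z : h' ∉ Z := fun h1 => hwZ (by
    have := Z.mul_mem h1 (Z.pow_mem (Subgroup.mem_zpowers (π g)) m')
    rwa [hh', inv_mul_cancel_right] at this)
  set x := π g ^ e' with hx
  have hxp : x ^ p = 1 := by
    rw [hx, ← pow_mul, mul_comm, ← he', Monoid.pow_exponent_eq_one]
  have hx1 : x ≠ 1 := fun h1 => by
    have h2 := Nat.le_of_dvd (Nat.pos_of_ne_zero fun h0 =>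
      Monoid.exponent_ne_zero_of_finite (G := A ⧸ B.subgroupOf A) (by
        show e = 0
        rw [he', h0, mul_zero])) (orderOf_dvd_of_pow_eq_one h1)
    rw [hg'] at h2
    have : p * e' ≤ e' := h2
    have : 0 < e' := Nat.pos_of_ne_zero fun h0 =>
      Monoid.exponent_ne_zero_of_finite (G := A ⧸ B.subgroupOf A) (by
        show e = 0
        rw [he', h0, mul_zero])
    nlinarith [hp.two_le]
  obtain ⟨b, hb⟩ := QuotientGroup.mk'_surjective _ h'
  refine ⟨p, hp, (g ^ e' : A), (g ^ e' : A).2, b, b.2, ?_, ?_, fun i j hij => ?_⟩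
  · exact (hπ ((g ^ e') ^ p)).1 (by rw [map_pow, map_pow, ← hx, hxp])
  · exact (hπ (b ^ p)).1 (by rw [map_pow, hb, hh'p])
  have h1 : x ^ i * h' ^ j = 1 := by
    rw [hx, ← hb, ← map_pow, ← map_pow, ← map_pow, ← map_mul]
    exact (hπ _).2 hij
  have hj : p ∣ j := by
    by_contra hj
    obtain ⟨l, hl⟩ := exists_pow_eq_self_of_coprime (x := h') (n := j)
      (Nat.Coprime.coprime_dvd_right (orderOf_dvd_of_pow_eq_one hh'p)
        ((Nat.Prime.coprime_iff_not_dvd hp).2 hj).symm)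
    refine hh'Z (hl ▸ Z.pow_mem ?_ l)
    rw [eq_inv_of_mul_eq_one_right h1, hx, ← pow_mul]
    exact Z.inv_mem (Z.pow_mem (Subgroup.mem_zpowers _) _)
  obtain ⟨j', rfl⟩ := hj
  rw [pow_mul, hh'p, one_pow, mul_one] at h1
  exact ⟨(orderOf_eq_prime hxp hx1) ▸ orderOf_dvd_of_pow_eq_one h1, Dvd.intro _ rfl⟩

variable [Finite G]

/-- `K` is generated by its `A`-invariant Sylow subgroups. -/
theorem le_of_invariant_sylow_le {A K : Subgroup G} (hAK : A ≤ Subgroup.normalizer (K : Set G))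
    (hcop : (Nat.card A).Coprime (Nat.card K)) (hsolv : Group.IsSolvable A ∨ Group.IsSolvable K)
    {W : Subgroup G}
    (h : ∀ (q : ℕ) (Q : Subgroup G), q.Prime → Q ≤ K → IsPGroup q Q →
      A ≤ Subgroup.normalizer (Q : Set G) → Q ≤ W) : K ≤ W := by
  have h1 : K ⊓ W = K := by
    refine Subgroup.eq_of_le_of_card_ge inf_le_left ?_
    refine Nat.le_of_dvd Nat.card_pos ?_
    rw [Nat.dvd_iff_prime_pow_dvd_dvd]
    intro q n hq hn
    have := Fact.mk hq
    obtain ⟨P, hP⟩ := exists_invariant_sylow hAK hcop hsolv q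
    have hPW : (P : Subgroup K).map K.subtype ≤ K ⊓ W := le_inf (Subgroup.map_subtype_le _)
      (h q _ hq (Subgroup.map_subtype_le _) (P.2.map _) hP)
    refine dvd_trans ?_ (Subgroup.card_dvd_of_le hPW)
    rw [Subgroup.card_map_of_injective K.subtype_injective, P.card_eq_multiplicity]
    exact pow_dvd_pow q ((Nat.Prime.pow_dvd_iff_le_factorization hq Nat.card_pos.ne').1 hn)
  exact h1 ▸ inf_le_right

/-- Generation by the centralisers in the span of two elements of order `p` modulo `C(K)`. -/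
theorem le_of_pair {A K W : Subgroup G} [IsMulCommutative A]
    (hAK : A ≤ Subgroup.normalizer (K : Set G)) (hcop : (Nat.card A).Coprime (Nat.card K))
    {p : ℕ} (hp : p.Prime) {a b : G} (ha : a ∈ A) (hb : b ∈ A)
    (hap : a ^ p ∈ Subgroup.centralizer (K : Set G))
    (hbp : b ^ p ∈ Subgroup.centralizer (K : Set G))
    (hW : ∀ i j : ℕ, ¬(p ∣ i ∧ p ∣ j) → K ⊓ Subgroup.centralizer {a ^ i * b ^ j} ≤ W) :
    K ≤ W := by
  by_cases haK : a ∈ Subgroup.centralizer (K : Set G)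
  · refine le_trans (fun x hx => ?_) (hW 1 0 (fun h => hp.not_dvd_one h.1))
    refine ⟨hx, Subgroup.mem_centralizer_singleton_iff.2 ?_⟩
    rw [pow_one, pow_zero, mul_one]
    exact haK x hx
  have hpK : ¬ p ∣ Nat.card K := fun hd => by
    have h1 : p ∣ Nat.card A := by
      by_contra hpA
      obtain ⟨l, hl⟩ := exists_pow_eq_self_of_coprime (x := a) (n := p)
        ((Nat.Prime.coprime_iff_not_dvd hp).2 fun hd' =>
          hpA (hd'.trans (Subgroup.orderOf_mk a ha ▸ orderOf_dvd_natCard (⟨a, ha⟩ : A))))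
      exact haK (hl ▸ Subgroup.pow_mem _ hap l)
    exact hp.ne_one (Nat.eq_one_of_dvd_coprimes hcop h1 hd)
  have hAsolv : Group.IsSolvable A := inferInstance
  refine le_of_invariant_sylow_le hAK hcop (Or.inl hAsolv) fun q Q hq hQK hQ hAQ => ?_
  have := Fact.mk hq
  set Φ : Subgroup G := (frattini Q).map Q.subtype with hΦdef
  have hAΦ : A ≤ Subgroup.normalizer (Φ : Set G) := fun c hc => by
    refine mem_normalizer_of_forall ?_
    rintro _ ⟨x, hx, rfl⟩
    exact ⟨Q.normalizerMonoidHom ⟨c, hAQ hc⟩ x,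
      (Subgroup.characteristic_iff_le_comap.1 inferInstance _) hx, rfl⟩
  have hQΦ : Q ≤ Subgroup.normalizer (Φ : Set G) := fun c hc => by
    refine mem_normalizer_of_forall ?_
    rintro _ ⟨x, hx, rfl⟩
    exact ⟨(⟨c, hc⟩ : Q) * x * (⟨c, hc⟩ : Q)⁻¹,
      (inferInstance : (frattini Q).Normal).conj_mem x hx _, rfl⟩
  set H : Subgroup G := Subgroup.normalizer (Φ : Set G)
  have : (Φ.subgroupOf H).Normal := Subgroup.normal_in_normalizer
  set π := QuotientGroup.mk' (Φ.subgroupOf H) with hπdef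
  have hπ : ∀ x : H, π x = 1 ↔ (x : G) ∈ Φ := fun x => by
    rw [hπdef, QuotientGroup.mk'_apply, QuotientGroup.eq_one_iff, Subgroup.mem_subgroupOf]
  set V : Subgroup (H ⧸ Φ.subgroupOf H) := (Q.subgroupOf H).map π with hV
  have hVc : IsMulCommutative V := by
    rw [← Subgroup.commutator_self_eq_bot_iff, eq_bot_iff, Subgroup.commutator_le]
    rintro _ ⟨x, hx, rfl⟩ _ ⟨y, hy, rfl⟩
    rw [← map_commutatorElement, Subgroup.mem_bot, hπ]
    exact ⟨⁅(⟨(x : G), hx⟩ : Q), ⟨(y : G), hy⟩⁆,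
      PGroup.commutatorElement_mem_frattini hQ _ _, rfl⟩
  -- conjugation by `a` and `b` on `V`
  have hHV : ∀ c : H, (c : G) ∈ Subgroup.normalizer (Q : Set G) →
      π c ∈ Subgroup.normalizer (V : Set (H ⧸ Φ.subgroupOf H)) := fun c hc => by
    refine mem_normalizer_of_forall ?_
    rintro _ ⟨y, hy, rfl⟩
    refine ⟨c * y * c⁻¹, ?_, by simp⟩
    exact (Subgroup.mem_normalizer_iff.1 hc y).1 hy
  let s' : Subgroup.normalizer (V : Set (H ⧸ Φ.subgroupOf H)) :=
    ⟨π ⟨a, hAΦ ha⟩, hHV _ (hAQ ha)⟩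
  let t' : Subgroup.normalizer (V : Set (H ⧸ Φ.subgroupOf H)) :=
    ⟨π ⟨b, hAΦ hb⟩, hHV _ (hAQ hb)⟩
  have hst : Commute s' t' := Subtype.ext (by
    show π _ * π _ = π _ * π _
    rw [← map_mul, ← map_mul]
    congr 1
    exact Subtype.ext (setLike_mul_comm ha hb))
  have hcen : ∀ (c : G) (hc : c ∈ A), c ^ p ∈ Subgroup.centralizer (K : Set G) →
      ∀ v : V, (π (⟨c, hAΦ hc⟩ ^ p)) * v * (π (⟨c, hAΦ hc⟩ ^ p))⁻¹ = v := by
    rintro c hc hcp ⟨_, y, hy, rfl⟩
    rw [mul_inv_eq_iff_eq_mul, ← map_mul, ← map_mul]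
    exact congrArg π (Subtype.ext (hcp (y : G) (hQK hy)).symm)
  have hsp : V.normalizerMonoidHom s' ^ p = 1 := by
    rw [← map_pow]
    ext v
    show ((s' ^ p : _) : H ⧸ Φ.subgroupOf H) * v * ((s' ^ p : _) : H ⧸ Φ.subgroupOf H)⁻¹ = v
    have h1 := hcen a ha hap v
    rwa [map_pow] at h1
  have htp : V.normalizerMonoidHom t' ^ p = 1 := by
    rw [← map_pow]
    ext v
    show ((t' ^ p : _) : H ⧸ Φ.subgroupOf H) * v * ((t' ^ p : _) : H ⧸ Φ.subgroupOf H)⁻¹ = v
    have h1 := hcen b hb hbp v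
    rwa [map_pow] at h1
  have main := pow_mem_of_pair_aut (V.normalizerMonoidHom s') (V.normalizerMonoidHom t')
    (hst.map _) hp hsp htp (((W ⊓ Q).subgroupOf H |>.map π).subgroupOf V) (fun i j hij v hv => by
      obtain ⟨v, y, hy, rfl⟩ := v
      rw [← map_pow, ← map_pow, ← map_mul] at hv
      have hv' : π (⟨a, hAΦ ha⟩ ^ i * ⟨b, hAΦ hb⟩ ^ j) * π y *
          (π (⟨a, hAΦ ha⟩ ^ i * ⟨b, hAΦ hb⟩ ^ j))⁻¹ = π y := by
        have := congrArg Subtype.val hv
        rw [map_mul, map_pow, map_pow]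
        exact this
      set d : G := a ^ i * b ^ j with hd
      have hdA : d ∈ A := A.mul_mem (A.pow_mem ha i) (A.pow_mem hb j)
      have hdy : d * (y : G) * d⁻¹ * (y : G)⁻¹ ∈ Φ := by
        rw [← map_inv, ← map_mul, ← map_mul, ← mul_inv_eq_one, ← map_inv, ← map_mul, hπ] at hv'
        simpa [hd] using hv'
      have hZA : Subgroup.zpowers d ≤ A := Subgroup.zpowers_le.2 hdA
      obtain ⟨c, hc, hcy⟩ := exists_mem_centralizer_of_coset (A := Subgroup.zpowers d)
        (hZA.trans hAQ) ((hcop.coprime_dvd_left (Subgroup.card_dvd_of_le hZA)).coprime_dvd_right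
          (Subgroup.card_dvd_of_le hQK)) (Or.inl (isSolvable_of_le hZA hAsolv))
        (Subgroup.map_subtype_le _) (hZA.trans hAΦ) hy (fun e he => by
          -- every power of `d` fixes the coset
          let F : Subgroup G :=
            { carrier := {e | e ∈ Subgroup.normalizer (Φ : Set G) ∧
                e * (y : G) * e⁻¹ * (y : G)⁻¹ ∈ Φ}
              one_mem' := ⟨Subgroup.one_mem _, by simp [Φ.one_mem]⟩
              mul_mem' := by
                rintro e f ⟨he, he'⟩ ⟨hf, hf'⟩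
                refine ⟨Subgroup.mul_mem _ he hf, ?_⟩
                have h1 : e * f * y * (e * f)⁻¹ * (y : G)⁻¹ =
                    e * (f * y * f⁻¹ * (y : G)⁻¹) * e⁻¹ * (e * y * e⁻¹ * (y : G)⁻¹) := by group
                rw [h1]
                exact Φ.mul_mem ((Subgroup.mem_normalizer_iff.1 he _).1 hf') he'
              inv_mem' := by
                rintro e ⟨he, he'⟩
                refine ⟨Subgroup.inv_mem _ he, ?_⟩
                have h1 : e⁻¹ * y * e⁻¹⁻¹ * (y : G)⁻¹ =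
                    e⁻¹ * (e * y * e⁻¹ * (y : G)⁻¹)⁻¹ * e := by group
                rw [h1]
                exact (Subgroup.mem_normalizer_iff''.1 he _).1 (Φ.inv_mem he') }
          exact ((Subgroup.zpowers_le.2 (show d ∈ F from ⟨hAΦ hdA, hdy⟩)) he).2)
      have hcW : c ∈ W := hW i j hij ⟨hQK hc.1, Subgroup.mem_centralizer_singleton_iff.2
        (hc.2 d (Subgroup.mem_zpowers d)).symm⟩
      refine ⟨⟨c, hQΦ hc.1⟩, ⟨hcW, hc.1⟩, ?_⟩
      show π _ = π y
      rw [← mul_inv_eq_one, ← map_inv, ← map_mul, hπ]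
      exact hcy)
  -- back to `Q`
  have hcopq : p.Coprime (Nat.card Q) :=
    (Nat.Prime.coprime_iff_not_dvd hp).2 fun hd => hpK (hd.trans (Subgroup.card_dvd_of_le hQK))
  have hmeet : ∀ x : Q, ∃ y ∈ W.subgroupOf Q, x⁻¹ * y ∈ frattini Q := by
    intro x
    obtain ⟨r, hr⟩ := exists_pow_eq_self_of_coprime (x := x) (n := p)
      (hcopq.coprime_dvd_right (orderOf_dvd_natCard x))
    obtain ⟨z, hz, hzx⟩ := main ⟨π ⟨(x : G) ^ r, hQΦ (Q.pow_mem x.2 r)⟩,
      ⟨⟨(x : G) ^ r, hQΦ (Q.pow_mem x.2 r)⟩, Q.pow_mem x.2 r, rfl⟩⟩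
    refine ⟨⟨z, hz.2⟩, hz.1, ?_⟩
    have h1 : π z = π ⟨(x : G), hQΦ x.2⟩ := by
      rw [hzx]
      show π _ ^ p = _
      rw [← map_pow]
      congr 1
      refine Subtype.ext ?_
      show ((x : G) ^ r) ^ p = x
      rw [← pow_mul, mul_comm, pow_mul]
      exact congrArg Subtype.val hr
    rw [← inv_mul_eq_one, ← map_inv, ← map_mul, hπ] at h1
    obtain ⟨u, hu, hue⟩ := h1
    have h2 := (frattini Q).inv_mem hu
    convert h2 using 1
    refine Subtype.ext ?_
    have hue' : (u : G) = (z : G)⁻¹ * x := hue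
    simp [hue']
  have htop : W.subgroupOf Q = ⊤ := frattini_nongenerating (eq_top_iff.2 fun x _ => by
    obtain ⟨y, hy, hxy⟩ := hmeet x
    have h2 := (W.subgroupOf Q ⊔ frattini Q).mul_mem (Subgroup.mem_sup_left hy)
      (Subgroup.mem_sup_right ((frattini Q).inv_mem hxy))
    simpa [mul_assoc] using h2)
  exact Subgroup.subgroupOf_eq_top.1 htop

/-- `K` is generated by the fixed points of the subgroups of `A` with cyclic quotient. -/
theorem le_of_cyclic_quotient {A K W : Subgroup G} [IsMulCommutative A]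
    (hAK : A ≤ Subgroup.normalizer (K : Set G)) (hcop : (Nat.card A).Coprime (Nat.card K))
    (hW : ∀ B : Subgroup G, B ≤ A → (∃ g ∈ A, A ≤ B ⊔ Subgroup.zpowers g) →
      K ⊓ Subgroup.centralizer (B : Set G) ≤ W) : K ≤ W := by
  suffices h : ∀ (n : ℕ) (B : Subgroup G), B ≤ A → Nat.card A - Nat.card B = n →
      K ⊓ Subgroup.centralizer (B : Set G) ≤ W by
    refine le_trans (le_inf le_rfl ?_) (h _ ⊥ bot_le rfl)
    intro x _ y hy
    rw [Subgroup.mem_bot.1 hy, one_mul, mul_one]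
  intro n
  induction n using Nat.strong_induction_on with
  | _ n ih =>
  intro B hBA hn
  by_cases hcyc : ∃ g ∈ A, A ≤ B ⊔ Subgroup.zpowers g
  · exact hW B hBA hcyc
  push Not at hcyc
  obtain ⟨p, hp, a, ha, b, hb, hap, hbp, hab⟩ := exists_pair_of_noncyclic_mod A B hBA hcyc
  set K1 := K ⊓ Subgroup.centralizer (B : Set G) with hK1
  have hAK1 : A ≤ Subgroup.normalizer (K1 : Set G) := fun c hc => by
    refine mem_normalizer_of_forall fun x hx => ⟨(Subgroup.mem_normalizer_iff.1 (hAK hc) x).1 hx.1,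
      fun y hy => ?_⟩
    calc y * (c * x * c⁻¹) = c * (y * x) * c⁻¹ := by
          rw [← mul_assoc, ← mul_assoc, setLike_mul_comm (hBA hy) hc]; group
      _ = c * (x * y) * c⁻¹ := by rw [hx.2 y hy]
      _ = c * x * c⁻¹ * y := by
          rw [show c * (x * y) * c⁻¹ = c * x * (y * c⁻¹) by group,
            setLike_mul_comm (hBA hy) (A.inv_mem hc)]
          group
  refine le_of_pair hAK1 (hcop.coprime_dvd_right (Subgroup.card_dvd_of_le inf_le_left)) hp ha hb
    (fun x hx => (hx.2 _ hap).symm) (fun x hx => (hx.2 _ hbp).symm) fun i j hij => ?_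
  set d := a ^ i * b ^ j
  have hdA : d ∈ A := A.mul_mem (A.pow_mem ha i) (A.pow_mem hb j)
  set B' := B ⊔ Subgroup.zpowers d
  have hB'A : B' ≤ A := sup_le hBA (Subgroup.zpowers_le.2 hdA)
  have hlt : Nat.card B < Nat.card B' := by
    refine (Subgroup.card_le_of_le le_sup_left).lt_of_ne fun he => hij (hab i j ?_)
    have := Subgroup.eq_of_le_of_card_ge (le_sup_left : B ≤ B') he.ge
    rw [this]
    exact Subgroup.mem_sup_right (Subgroup.mem_zpowers d)
  refine le_trans (le_inf (inf_le_left.trans inf_le_left) ?_)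
    (ih (Nat.card A - Nat.card B') (by have := Subgroup.card_le_of_le hB'A; omega) B' hB'A rfl)
  intro x hx y hy
  have hle : B' ≤ Subgroup.centralizer {x} := sup_le
    (fun z hz => Subgroup.mem_centralizer_singleton_iff.2 (hx.1.2 z hz))
    (Subgroup.zpowers_le.2 (Subgroup.mem_centralizer_singleton_iff.2
      (Subgroup.mem_centralizer_singleton_iff.1 hx.2).symm))
  exact Subgroup.mem_centralizer_singleton_iff.1 (hle hy)

/-- Generation by centralisers of the nonidentity elements of a noncyclic abelian group. -/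
theorem le_of_noncyclic {A K W : Subgroup G} [IsMulCommutative A] (hA : ¬ IsCyclic A)
    (hAK : A ≤ Subgroup.normalizer (K : Set G)) (hcop : (Nat.card A).Coprime (Nat.card K))
    (hW : ∀ a ∈ A, a ≠ 1 → K ⊓ Subgroup.centralizer {a} ≤ W) : K ≤ W := by
  refine le_of_cyclic_quotient hAK hcop fun B hBA hcyc => ?_
  obtain ⟨g, hg, hle⟩ := hcyc
  by_cases hB : B = ⊥
  · exfalso
    subst hB
    rw [bot_sup_eq] at hle
    exact hA (Subgroup.isCyclic_of_le hle)
  obtain ⟨c, hc, hc1⟩ := (Subgroup.ne_bot_iff_exists_ne_one.1 hB) |>.elim fun c hc =>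
    (⟨c, c.2, fun h => hc (Subtype.ext h)⟩ : ∃ c ∈ B, c ≠ 1)
  refine le_trans (le_inf inf_le_left fun x hx => ?_) (hW c (hBA hc) hc1)
  exact Subgroup.mem_centralizer_singleton_iff.2 (hx.2 c hc).symm

/-- In an abelian group of exponent `p` a cyclic quotient has order at most `p`. -/
theorem relIndex_le_of_cyclic_quotient {A B : Subgroup G} [IsMulCommutative A] {p : ℕ}
    (hp : p.Prime) (hexp : ∀ a ∈ A, a ^ p = 1) (hBA : B ≤ A) {g : G} (hg : g ∈ A)
    (hle : A ≤ B ⊔ Subgroup.zpowers g) : B.relIndex A ≤ p := by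
  have hn : Subgroup.zpowers g ≤ Subgroup.normalizer (B : Set G) :=
    Subgroup.zpowers_le.2 (mem_normalizer_of_forall fun x hx => by
      rwa [setLike_mul_comm hg (hBA hx), mul_inv_cancel_right])
  have h1 : Nat.card A ≤ Nat.card B * p := by
    refine le_trans ?_ (Nat.mul_le_mul le_rfl
      (Nat.le_of_dvd hp.pos ((Nat.card_zpowers g).symm ▸
        orderOf_dvd_of_pow_eq_one (hexp g hg))))
    rw [← Nat.card_prod]
    have hmem : ∀ z : B × Subgroup.zpowers g, (z.1 : G) * z.2 ∈ A := fun z =>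
      A.mul_mem (hBA z.1.2) (Subgroup.zpowers_le.2 hg z.2.2)
    refine Nat.card_le_card_of_surjective (fun z => (⟨_, hmem z⟩ : A)) fun x => ?_
    obtain ⟨y, hy, z, hz, hyz⟩ := (mem_sup_iff hn).1 (hle x.2)
    exact ⟨(⟨y, hy⟩, ⟨z, hz⟩), Subtype.ext hyz⟩
  have h2 : Nat.card B * B.relIndex A = Nat.card A := by
    rw [← Nat.card_congr (Subgroup.subgroupOfEquivOfLe hBA).toEquiv, Subgroup.relIndex,
      Subgroup.card_mul_index]
  exact Nat.le_of_mul_le_mul_left (h2 ▸ h1) Nat.card_pos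

end Cfsg.Agent.Coprime
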