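import Cfsg.Agent.EqLemmas
import Cfsg.Agent.Lib.Solvable.SchurZassenhaus

/-!
# Coprime action, basics

`A K : Subgroup G` with `A ≤ normalizer K`.
* elementary: `mem_sup_iff`, `card_sup_of_coprime`, `mem_centralizer_of_normalizer`
* `exists_conj_eq_of_le_sup`: Schur-Zassenhaus conjugacy, internal form
* `exists_conj_le_of_forall`: general form of Glauberman's lemma (existence)
* `exists_mem_centralizer_mul`: general form of Glauberman's lemma (conjugacy)
-/

set_option autoImplicit false

namespace Cfsg.Agent.Coprime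

open scoped Pointwise

variable {G : Type*} [Group G]

theorem mem_conj {H : Subgroup G} {g x : G} : x ∈ MulAut.conj g • H ↔ g⁻¹ * x * g ∈ H := by
  rw [Subgroup.mem_pointwise_smul_iff_inv_smul_mem]
  simp [MulAut.smul_def, MulAut.conj_apply, ← map_inv]

theorem conj_mem_conj {H : Subgroup G} {g x : G} :
    g * x * g⁻¹ ∈ MulAut.conj g • H ↔ x ∈ H := by
  rw [mem_conj]; group

theorem card_conj (g : G) (H : Subgroup G) :
    Nat.card (MulAut.conj g • H : Subgroup G) = Nat.card H :=
  (Nat.card_congr (Subgroup.equivSMul (MulAut.conj g) H).toEquiv).symm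

/-- `N ⊔ H = N H` when `H` normalises `N`. -/
theorem mem_sup_iff {N H : Subgroup G} (hN : H ≤ Subgroup.normalizer (N : Set G)) {x : G} :
    x ∈ N ⊔ H ↔ ∃ n ∈ N, ∃ h ∈ H, n * h = x := by
  rw [← SetLike.mem_coe, Subgroup.coe_mul_of_right_le_normalizer_left N H hN]
  rfl

/-- In a finite group one inclusion suffices for membership in the normaliser. -/
theorem mem_normalizer_of_forall [Finite G] {H : Subgroup G} {g : G}
    (h : ∀ x ∈ H, g * x * g⁻¹ ∈ H) : g ∈ Subgroup.normalizer (H : Set G) := by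
  have hle : MulAut.conj g • H ≤ H := fun x hx => by
    have := h _ (mem_conj.1 hx)
    group at this
    simpa using this
  have heq : MulAut.conj g • H = H := Subgroup.eq_of_le_of_card_ge hle (card_conj g H).ge
  rw [Subgroup.mem_normalizer_iff]
  intro x
  conv_rhs => rw [← heq]
  exact conj_mem_conj.symm

theorem conj_eq_of_mem_normalizer {H : Subgroup G} {g : G}
    (hg : g ∈ Subgroup.normalizer (H : Set G)) : MulAut.conj g • H = H := by
  ext x
  rw [mem_conj]; exact ((Subgroup.mem_normalizer_iff''.1 hg) x).symm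

theorem mem_normalizer_of_conj_eq {H : Subgroup G} {g : G}
    (hg : MulAut.conj g • H = H) : g ∈ Subgroup.normalizer (H : Set G) := by
  rw [Subgroup.mem_normalizer_iff'']
  intro x
  conv_lhs => rw [← hg]
  exact mem_conj

theorem inf_eq_bot {A K : Subgroup G} (hcop : (Nat.card A).Coprime (Nat.card K)) : A ⊓ K = ⊥ :=
  disjoint_iff.1 (Subgroup.disjoint_of_coprime_natCard hcop)

theorem eq_one_of_mem_of_mem {A K : Subgroup G} (hcop : (Nat.card A).Coprime (Nat.card K))
    {x : G} (hA : x ∈ A) (hK : x ∈ K) : x = 1 := by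
  have : x ∈ A ⊓ K := ⟨hA, hK⟩
  rwa [inf_eq_bot hcop] at this

theorem card_sup_of_coprime {N H : Subgroup G} (hN : H ≤ Subgroup.normalizer (N : Set G))
    (hcop : (Nat.card N).Coprime (Nat.card H)) :
    Nat.card (N ⊔ H : Subgroup G) = Nat.card N * Nat.card H := by
  rw [← Nat.card_prod]
  refine (Nat.card_congr (Equiv.ofBijective
    (fun p : N × H => (⟨p.1 * p.2, Subgroup.mul_mem_sup p.1.2 p.2.2⟩ : (N ⊔ H : Subgroup G)))
    ⟨?_, ?_⟩)).symm
  · intro p q hpq
    have hd : Disjoint N H := by rw [disjoint_iff, inf_eq_bot hcop]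
    exact Subgroup.mul_injective_of_disjoint hd (congrArg Subtype.val hpq)
  · rintro ⟨x, hx⟩
    obtain ⟨n, hn, h, hh, rfl⟩ := (mem_sup_iff hN).1 hx
    exact ⟨(⟨n, hn⟩, ⟨h, hh⟩), rfl⟩

/-- An element of `K` normalising `A` centralises `A`, if the orders are coprime. -/
theorem mem_centralizer_of_normalizer {A K : Subgroup G}
    (hAK : A ≤ Subgroup.normalizer (K : Set G)) (hcop : (Nat.card A).Coprime (Nat.card K))
    {k : G} (hk : k ∈ K) (hkA : k ∈ Subgroup.normalizer (A : Set G)) :
    k ∈ Subgroup.centralizer (A : Set G) := by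
  intro a ha
  have h1 : a⁻¹ * (k * a * k⁻¹) = 1 := by
    refine eq_one_of_mem_of_mem hcop (A.mul_mem (A.inv_mem ha)
      ((Subgroup.mem_normalizer_iff.1 hkA a).1 ha)) ?_
    have : a⁻¹ * k * a ∈ K := (Subgroup.mem_normalizer_iff''.1 (hAK ha) k).1 hk
    simpa [mul_assoc] using K.mul_mem this (K.inv_mem hk)
  rw [inv_mul_eq_one, eq_mul_inv_iff_mul_eq] at h1
  exact h1

theorem isSolvable_of_le {H K : Subgroup G} (h : H ≤ K) (hK : Group.IsSolvable K) :
    Group.IsSolvable H :=
  Group.isSolvable_of_isSolvable_injective (Subgroup.inclusion_injective h)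

/-- Schur-Zassenhaus conjugacy, internal form: a subgroup of `N H` of the order of `H` is the
conjugate of `H` by an element of `N`. -/
theorem exists_conj_eq_of_le_sup [Finite G] {N H L : Subgroup G}
    (hN : H ≤ Subgroup.normalizer (N : Set G)) (hcop : (Nat.card H).Coprime (Nat.card N))
    (hsolv : Group.IsSolvable H ∨ Group.IsSolvable N)
    (hL : L ≤ N ⊔ H) (hcard : Nat.card L = Nat.card H) :
    ∃ n ∈ N, MulAut.conj n • H = L := by
  set S : Subgroup G := N ⊔ H with hS
  have hNS : N ≤ S := le_sup_left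
  have hHS : H ≤ S := le_sup_right
  have hSN : S ≤ Subgroup.normalizer (N : Set G) := sup_le Subgroup.le_normalizer hN
  have : (N.subgroupOf S).Normal := Subgroup.normal_subgroupOf_of_le_normalizer hSN
  have e {X : Subgroup G} (h : X ≤ S) : Nat.card (X.subgroupOf S) = Nat.card X :=
    Nat.card_congr (Subgroup.subgroupOfEquivOfLe h).toEquiv
  have hc {X : Subgroup G} (hX : X ≤ S) (hXc : Nat.card X = Nat.card H) :
      Subgroup.IsComplement' (N.subgroupOf S) (X.subgroupOf S) := by
    refine Subgroup.isComplement'_of_coprime ?_ ?_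
    · rw [e hNS, e hX, hXc, hS, card_sup_of_coprime hN hcop.symm]
    · rw [e hNS, e hX, hXc]; exact hcop.symm
  have hH' := hc hHS rfl
  obtain ⟨g, hgN, hg⟩ := Solvable.exists_conj_of_isComplement' (N := N.subgroupOf S)
    (by rw [hH'.symm.index_eq_card, e hNS, e hHS]; exact hcop.symm)
    (by
      rcases hsolv with h | h
      · right
        let E := (Subgroup.subgroupOfEquivOfLe hHS).symm.trans hH'.symm.QuotientMulEquiv.symm
        exact Group.isSolvable_of_surjective (f := E.toMonoidHom) E.surjective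
      · left
        exact Group.isSolvable_of_isSolvable_injective
          (f := (Subgroup.subgroupOfEquivOfLe hNS).toMonoidHom)
          (Subgroup.subgroupOfEquivOfLe hNS).injective)
    hH' (hc hL hcard)
  refine ⟨g, hgN, ?_⟩
  ext x
  rw [mem_conj]
  constructor
  · intro hx
    have hxS : x ∈ S := by
      have := S.mul_mem (S.mul_mem g.2 (hHS hx)) (S.inv_mem g.2)
      group at this; simpa using this
    have h2 : (⟨x, hxS⟩ : S) ∈ MulAut.conj g • H.subgroupOf S := by
      rw [mem_conj]; exact hx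
    rw [hg] at h2; exact h2
  · intro hx
    have h2 : (⟨x, hL hx⟩ : S) ∈ L.subgroupOf S := hx
    rw [← hg, mem_conj] at h2; exact h2

/-- Glauberman's lemma, existence, general form: if `T ≤ K A` meets every coset `K a`, then a
conjugate of `A` by an element of `K` lies in `T`. -/
theorem exists_conj_le_of_forall [Finite G] {A K : Subgroup G}
    (hAK : A ≤ Subgroup.normalizer (K : Set G)) (hcop : (Nat.card A).Coprime (Nat.card K))
    (hsolv : Group.IsSolvable A ∨ Group.IsSolvable K) (T : Subgroup G)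
    (hT : ∀ a ∈ A, ∃ k ∈ K, k * a ∈ T) :
    ∃ n ∈ K, MulAut.conj n • A ≤ T := by
  choose k hk hka using hT
  set T' : Subgroup G := T ⊓ (K ⊔ A) with hT'
  have hkaT (a : A) : k a a.2 * a ∈ T' :=
    ⟨hka a a.2, Subgroup.mul_mem_sup (hk a a.2) a.2⟩
  have hT'N : T' ≤ Subgroup.normalizer (K : Set G) :=
    inf_le_right.trans (sup_le Subgroup.le_normalizer hAK)
  have hnorm : (K.subgroupOf T').Normal := Subgroup.normal_subgroupOf_of_le_normalizer hT'N
  have hcard : Nat.card (K.subgroupOf T') * Nat.card A = Nat.card T' := by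
    rw [← Nat.card_prod]
    refine Nat.card_congr (Equiv.ofBijective
      (fun p : K.subgroupOf T' × A => p.1.1 * (⟨k p.2 p.2.2 * p.2, hkaT p.2⟩ : T')) ⟨?_, ?_⟩)
    · rintro ⟨⟨⟨x, hxT⟩, hx⟩, a⟩ ⟨⟨⟨y, hyT⟩, hy⟩, b⟩ h
      have h' : x * k a a.2 * (a : G) = y * k b b.2 * (b : G) := by
        simpa [mul_assoc] using congrArg Subtype.val h
      have hd : Disjoint K A := by rw [disjoint_iff, inf_eq_bot hcop.symm]
      have := Subgroup.mul_injective_of_disjoint hd
        (a₁ := (⟨x * k a a.2, K.mul_mem hx (hk a a.2)⟩, a))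
        (a₂ := (⟨y * k b b.2, K.mul_mem hy (hk b b.2)⟩, b)) h'
      simp only [Prod.mk.injEq, Subtype.mk.injEq] at this
      obtain ⟨h1, rfl⟩ := this
      obtain rfl := mul_right_cancel h1
      rfl
    · rintro ⟨x, hx⟩
      obtain ⟨c, hc, a, ha, rfl⟩ := (mem_sup_iff hAK).1 hx.2
      have h1 := T'.mul_mem hx (T'.inv_mem (hkaT ⟨a, ha⟩))
      refine ⟨(⟨⟨_, h1⟩, ?_⟩, ⟨a, ha⟩), ?_⟩
      · show c * a * (k a ha * a)⁻¹ ∈ K
        simpa [mul_assoc] using K.mul_mem hc (K.inv_mem (hk a ha))
      · apply Subtype.ext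
        show c * a * (k a ha * a)⁻¹ * (k a ha * a) = c * a
        group
  have hindex : (K.subgroupOf T').index = Nat.card A := by
    have h1 := (K.subgroupOf T').index_mul_card
    rw [← hcard, mul_comm (K.subgroupOf T').index] at h1
    exact Nat.eq_of_mul_eq_mul_left Nat.card_pos h1
  have hdvd : Nat.card (K.subgroupOf T') ∣ Nat.card K :=
    Subgroup.card_comap_dvd_of_injective K T'.subtype Subtype.coe_injective
  obtain ⟨L, hL⟩ := Subgroup.exists_right_complement'_of_coprime
    (N := K.subgroupOf T') (by rw [hindex]; exact (hcop.symm).coprime_dvd_left hdvd)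
  have hLc : Nat.card (L.map T'.subtype) = Nat.card A := by
    rw [Subgroup.card_map_of_injective T'.subtype_injective, ← hL.symm.index_eq_card, hindex]
  obtain ⟨n, hn, hnA⟩ := exists_conj_eq_of_le_sup hAK hcop hsolv
    ((Subgroup.map_subtype_le L).trans inf_le_right) hLc
  exact ⟨n, hn, hnA.trans_le ((Subgroup.map_subtype_le L).trans inf_le_left)⟩

/-- Glauberman's lemma, conjugacy, general form: if `A` and `A ^ k` lie in `T` then `k` can be
corrected by an element of `K ⊓ T` to centralise `A`. -/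
theorem exists_mem_centralizer_mul [Finite G] {A K : Subgroup G}
    (hAK : A ≤ Subgroup.normalizer (K : Set G)) (hcop : (Nat.card A).Coprime (Nat.card K))
    (hsolv : Group.IsSolvable A ∨ Group.IsSolvable K) (T : Subgroup G) (hAT : A ≤ T)
    {k : G} (hk : k ∈ K) (hkT : MulAut.conj k⁻¹ • A ≤ T) :
    ∃ m ∈ K ⊓ T, k * m ∈ K ⊓ Subgroup.centralizer (A : Set G) := by
  have hAN : A ≤ Subgroup.normalizer ((K ⊓ T : Subgroup G) : Set G) := fun a ha => by
    refine mem_normalizer_of_forall fun x hx => ⟨?_, ?_⟩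
    · exact (Subgroup.mem_normalizer_iff.1 (hAK ha) x).1 hx.1
    · exact T.mul_mem (T.mul_mem (hAT ha) hx.2) (T.inv_mem (hAT ha))
  have hle : MulAut.conj k⁻¹ • A ≤ (K ⊓ T) ⊔ A := by
    intro x hx
    have hxT := hkT hx
    rw [mem_conj, inv_inv] at hx
    set a := k * x * k⁻¹ with ha
    have h1 : x * a⁻¹ ∈ K ⊓ T := by
      refine ⟨?_, T.mul_mem hxT (T.inv_mem (hAT hx))⟩
      have h2 : a * k * a⁻¹ ∈ K := (Subgroup.mem_normalizer_iff.1 (hAK hx) k).1 hk
      have h3 := K.mul_mem (K.inv_mem hk) h2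
      rw [ha] at h3 ⊢
      group at h3 ⊢
      exact h3
    exact (mem_sup_iff hAN).2 ⟨_, h1, a, hx, by group⟩
  obtain ⟨m, hm, hmA⟩ := exists_conj_eq_of_le_sup hAN
    (hcop.coprime_dvd_right (Subgroup.card_dvd_of_le inf_le_left))
    (hsolv.imp id (isSolvable_of_le inf_le_left)) hle (card_conj k⁻¹ A)
  have hkm : k * m ∈ K := K.mul_mem hk hm.1
  refine ⟨m, hm, hkm, mem_centralizer_of_normalizer hAK hcop hkm (mem_normalizer_of_conj_eq ?_)⟩
  rw [map_mul, mul_smul, hmA, ← mul_smul, ← map_mul, mul_inv_cancel, map_one, one_smul]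

end Cfsg.Agent.Coprime
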