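import Cfsg.Agent.Lib.Coprime.Generation

/-!
# Sylow subgroups of fixed points; factorisations

* `card_mul_inf`: `|X Y| |X ∩ Y| = |X| |Y|`
* Sylow subgroups given by order: `card_le_of_isPGroup`, `exists_sylow_map_eq`,
  `exists_invariant_card`, `exists_mem_centralizer_conj_of_card`, `card_inf_eq_of_invariant`,
  `card_inf_centralizer_eq`
* `le_mul_of_isPGroup`, `le_mul_of_centralizers`: `K = X Y` from `C_K(a) = C_X(a) C_Y(a)`
-/

set_option autoImplicit false

namespace Cfsg.Agent.Coprime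

open scoped Pointwise commutatorElement IsMulCommutative

variable {G : Type*} [Group G]

theorem card_mul_inf [Finite G] (X Y : Subgroup G) :
    Nat.card ((X : Set G) * (Y : Set G) : Set G) * Nat.card (X ⊓ Y : Subgroup G) =
      Nat.card X * Nat.card Y := by
  rw [← Nat.card_prod, ← Nat.card_prod]
  refine Nat.card_congr (Equiv.ofBijective (fun z =>
    (⟨(Set.mem_mul.1 z.1.2).choose * z.2.1,
        X.mul_mem (Set.mem_mul.1 z.1.2).choose_spec.1 z.2.2.1⟩,
      ⟨(z.2.1 : G)⁻¹ * ((Set.mem_mul.1 z.1.2).choose⁻¹ * z.1.1), ?_⟩)) ⟨?_, ?_⟩)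
  · obtain ⟨y, hy, h⟩ := (Set.mem_mul.1 z.1.2).choose_spec.2
    refine Y.mul_mem (Y.inv_mem z.2.2.2) ?_
    have h' : (Set.mem_mul.1 z.1.2).choose⁻¹ * z.1.1 = y := inv_mul_eq_of_eq_mul h.symm
    exact h' ▸ hy
  · intro u v huv
    have h1 : (Set.mem_mul.1 u.1.2).choose * u.2.1 = (Set.mem_mul.1 v.1.2).choose * v.2.1 :=
      congrArg (fun w : X × Y => (w.1 : G)) huv
    have h2 : (u.2.1 : G)⁻¹ * ((Set.mem_mul.1 u.1.2).choose⁻¹ * u.1.1) =
        (v.2.1 : G)⁻¹ * ((Set.mem_mul.1 v.1.2).choose⁻¹ * v.1.1) :=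
      congrArg (fun w : X × Y => (w.2 : G)) huv
    have h3 : u.1 = v.1 := by
      apply Subtype.ext
      have := congrArg₂ (· * ·) h1 h2
      group at this
      exact this
    obtain ⟨u1, u2⟩ := u
    obtain ⟨v1, v2⟩ := v
    obtain rfl : u1 = v1 := h3
    obtain rfl : u2 = v2 := Subtype.ext (mul_left_cancel h1)
    rfl
  · rintro ⟨⟨x, hx⟩, ⟨y, hy⟩⟩
    have hm : x * y ∈ (X : Set G) * (Y : Set G) := Set.mul_mem_mul hx hy
    set x' := (Set.mem_mul.1 hm).choose with hx'def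
    obtain ⟨hx', y', hy', h⟩ := (Set.mem_mul.1 hm).choose_spec
    rw [← hx'def] at hx' h
    have hY : x'⁻¹ * x ∈ Y := by
      have h1 : x'⁻¹ * x = y' * y⁻¹ := by
        calc x'⁻¹ * x = x'⁻¹ * (x * y) * y⁻¹ := by group
          _ = _ := by rw [← h]; group
      rw [h1]; exact Y.mul_mem hy' (Y.inv_mem hy)
    refine ⟨(⟨x * y, hm⟩, ⟨x'⁻¹ * x, X.mul_mem (X.inv_mem hx') hx, hY⟩), ?_⟩
    refine Prod.ext (Subtype.ext ?_) (Subtype.ext ?_)
    · show x' * (x'⁻¹ * x) = x
      group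
    · show (x'⁻¹ * x)⁻¹ * (x'⁻¹ * (x * y)) = y
      group

variable [Finite G]

theorem card_le_of_isPGroup {q : ℕ} [hq : Fact q.Prime] {T K : Subgroup G} (hT : IsPGroup q T)
    (hTK : T ≤ K) : Nat.card T ≤ q ^ (Nat.card K).factorization q := by
  obtain ⟨n, hn⟩ := IsPGroup.iff_card.1 hT
  rw [hn]
  exact Nat.pow_le_pow_right hq.out.pos
    ((hq.out.pow_dvd_iff_le_factorization Nat.card_pos.ne').1 (hn ▸ Subgroup.card_dvd_of_le hTK))

theorem isPGroup_of_card {q : ℕ} [Fact q.Prime] {T : Subgroup G} {n : ℕ}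
    (h : Nat.card T = q ^ n) : IsPGroup q T :=
  IsPGroup.of_card h

theorem exists_sylow_map_eq {q : ℕ} [Fact q.Prime] {Q K : Subgroup G} (hQK : Q ≤ K)
    (hQ : Nat.card Q = q ^ (Nat.card K).factorization q) :
    ∃ S : Sylow q K, (S : Subgroup K).map K.subtype = Q := by
  refine ⟨Sylow.ofCard (Q.subgroupOf K) ?_, ?_⟩
  · rw [Nat.card_congr (Subgroup.subgroupOfEquivOfLe hQK).toEquiv, hQ]
  · show (Q.subgroupOf K).map K.subtype = Q
    rw [Subgroup.subgroupOf_map_subtype, inf_eq_left.2 hQK]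

variable {A K : Subgroup G}

theorem exists_invariant_card (hAK : A ≤ Subgroup.normalizer (K : Set G))
    (hcop : (Nat.card A).Coprime (Nat.card K)) (hsolv : Group.IsSolvable A ∨ Group.IsSolvable K)
    (q : ℕ) [Fact q.Prime] {U : Subgroup G} (hUK : U ≤ K) (hU : IsPGroup q U)
    (hUA : A ≤ Subgroup.normalizer (U : Set G)) :
    ∃ Q : Subgroup G, U ≤ Q ∧ Q ≤ K ∧ A ≤ Subgroup.normalizer (Q : Set G) ∧
      Nat.card Q = q ^ (Nat.card K).factorization q := by
  obtain ⟨P, hUP, hP⟩ := exists_invariant_sylow_ge hAK hcop hsolv hUK hU hUA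
  exact ⟨_, hUP, Subgroup.map_subtype_le _, hP,
    (Subgroup.card_map_of_injective K.subtype_injective).trans P.card_eq_multiplicity⟩

theorem exists_mem_centralizer_conj_of_card (hAK : A ≤ Subgroup.normalizer (K : Set G))
    (hcop : (Nat.card A).Coprime (Nat.card K)) (hsolv : Group.IsSolvable A ∨ Group.IsSolvable K)
    {q : ℕ} [Fact q.Prime] {Q R : Subgroup G} (hQK : Q ≤ K) (hRK : R ≤ K)
    (hQA : A ≤ Subgroup.normalizer (Q : Set G)) (hRA : A ≤ Subgroup.normalizer (R : Set G))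
    (hQ : Nat.card Q = q ^ (Nat.card K).factorization q)
    (hR : Nat.card R = q ^ (Nat.card K).factorization q) :
    ∃ c ∈ K ⊓ Subgroup.centralizer (A : Set G), MulAut.conj c • R = Q := by
  obtain ⟨S, rfl⟩ := exists_sylow_map_eq hQK hQ
  obtain ⟨T, rfl⟩ := exists_sylow_map_eq hRK hR
  obtain ⟨c, hc, rfl⟩ := invariant_sylow_conj hAK hcop hsolv T S hRA hQA
  exact ⟨c, ⟨c.2, hc⟩, (map_subtype_smul c T).symm⟩

/-- An invariant Sylow subgroup meets an invariant subgroup normalised by `C_K(A)` in a Sylow. -/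
theorem card_inf_eq_of_invariant (hAK : A ≤ Subgroup.normalizer (K : Set G))
    (hcop : (Nat.card A).Coprime (Nat.card K)) (hsolv : Group.IsSolvable A ∨ Group.IsSolvable K)
    {q : ℕ} [Fact q.Prime] {Q X : Subgroup G} (hQK : Q ≤ K) (hX : X ≤ K)
    (hQA : A ≤ Subgroup.normalizer (Q : Set G)) (hXA : A ≤ Subgroup.normalizer (X : Set G))
    (hCX : K ⊓ Subgroup.centralizer (A : Set G) ≤ Subgroup.normalizer (X : Set G))
    (hQ : Nat.card Q = q ^ (Nat.card K).factorization q) :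
    Nat.card (Q ⊓ X : Subgroup G) = q ^ (Nat.card X).factorization q := by
  refine le_antisymm (card_le_of_isPGroup ((isPGroup_of_card hQ).to_le inf_le_left) inf_le_right) ?_
  obtain ⟨P, hP⟩ := exists_invariant_sylow hXA (hcop.coprime_dvd_right (Subgroup.card_dvd_of_le hX))
    (hsolv.imp id (isSolvable_of_le hX)) q
  obtain ⟨R, hPR, hRK, hRA, hR⟩ := exists_invariant_card hAK hcop hsolv q
    ((Subgroup.map_subtype_le (P : Subgroup X)).trans hX) (P.2.map _) hP
  obtain ⟨c, hc, hcQ⟩ := exists_mem_centralizer_conj_of_card hAK hcop hsolv hQK hRK hQA hRA hQ hR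
  have hle : MulAut.conj c • ((P : Subgroup X).map X.subtype) ≤ Q ⊓ X := le_inf
    (hcQ ▸ Subgroup.pointwise_smul_le_pointwise_smul_iff.2 hPR)
    ((Subgroup.pointwise_smul_le_pointwise_smul_iff.2 (Subgroup.map_subtype_le _)).trans_eq
      (conj_eq_of_mem_normalizer (hCX hc)))
  refine le_trans (le_of_eq ?_) (Subgroup.card_le_of_le hle)
  rw [card_conj, Subgroup.card_map_of_injective X.subtype_injective, P.card_eq_multiplicity]

/-- An invariant Sylow subgroup meets `C(a)` in a Sylow subgroup of `C_K(a)`. -/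
theorem card_inf_centralizer_eq (hAK : A ≤ Subgroup.normalizer (K : Set G))
    (hcop : (Nat.card A).Coprime (Nat.card K)) {q : ℕ} [Fact q.Prime] {Q : Subgroup G}
    (hQK : Q ≤ K) (hQA : A ≤ Subgroup.normalizer (Q : Set G))
    (hQ : Nat.card Q = q ^ (Nat.card K).factorization q) {a : G} (ha : a ∈ A) :
    Nat.card (Q ⊓ Subgroup.centralizer {a} : Subgroup G) =
      q ^ (Nat.card (K ⊓ Subgroup.centralizer {a} : Subgroup G)).factorization q := by
  refine le_antisymm (card_le_of_isPGroup ((isPGroup_of_card hQ).to_le inf_le_left)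
    (inf_le_inf_right _ hQK)) ?_
  set Z : Subgroup G := Subgroup.zpowers a
  have hZA : Z ≤ A := Subgroup.zpowers_le.2 ha
  have hCZ : ∀ x ∈ Subgroup.centralizer ({a} : Set G), x ∈ Subgroup.centralizer (Z : Set G) :=
    fun x hx y hy => by
      have h1 : Z ≤ Subgroup.centralizer {x} := Subgroup.zpowers_le.2
        (Subgroup.mem_centralizer_singleton_iff.2
          (Subgroup.mem_centralizer_singleton_iff.1 hx).symm)
      exact Subgroup.mem_centralizer_singleton_iff.1 (h1 hy)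
  obtain ⟨T⟩ := (inferInstance : Nonempty (Sylow q (K ⊓ Subgroup.centralizer {a} : Subgroup G)))
  set T' : Subgroup G := (T : Subgroup _).map (K ⊓ Subgroup.centralizer {a} : Subgroup G).subtype
  have hT' : T' ≤ K ⊓ Subgroup.centralizer {a} := Subgroup.map_subtype_le _
  have hs : Group.IsSolvable Z ∨ Group.IsSolvable K := Or.inl inferInstance
  have hcopZ := hcop.coprime_dvd_left (Subgroup.card_dvd_of_le hZA)
  obtain ⟨R, hTR, hRK, hRA, hR⟩ := exists_invariant_card (hZA.trans hAK) hcopZ hs q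
    (hT'.trans inf_le_left) (T.2.map _)
    (le_normalizer_of_centralizing fun x hx => hCZ x (hT' hx).2)
  obtain ⟨c, hc, hcR⟩ := exists_mem_centralizer_conj_of_card (hZA.trans hAK) hcopZ hs hQK hRK
    (hZA.trans hQA) hRA hQ hR
  have hle : MulAut.conj c • T' ≤ Q ⊓ Subgroup.centralizer {a} := le_inf
    (hcR ▸ Subgroup.pointwise_smul_le_pointwise_smul_iff.2 hTR) (fun x hx => by
      rw [mem_conj] at hx
      have h1 : c ∈ Subgroup.centralizer ({a} : Set G) :=
        Subgroup.mem_centralizer_singleton_iff.2 (hc.2 a (Subgroup.mem_zpowers a)).symm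
      have := Subgroup.mul_mem _ (Subgroup.mul_mem _ h1 (hT' hx).2) (Subgroup.inv_mem _ h1)
      group at this
      simpa using this)
  refine le_trans (le_of_eq ?_) (Subgroup.card_le_of_le hle)
  rw [card_conj, Subgroup.card_map_of_injective (Subgroup.subtype_injective _),
    T.card_eq_multiplicity]
where
  le_normalizer_of_centralizing {Z T : Subgroup G}
      (h : ∀ x ∈ T, x ∈ Subgroup.centralizer (Z : Set G)) :
      Z ≤ Subgroup.normalizer (T : Set G) :=
    (Subgroup.le_centralizer_iff.1 h).trans (Subgroup.centralizer_le_normalizer _)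

/-- `p`-group case of the factorisation. -/
theorem le_mul_of_isPGroup [IsMulCommutative A] (hA : ¬ IsCyclic A) {q : ℕ} [Fact q.Prime]
    {Q X Y : Subgroup G} (hQ : IsPGroup q Q) (hAQ : A ≤ Subgroup.normalizer (Q : Set G))
    (hcop : (Nat.card A).Coprime (Nat.card Q)) (hX : X ≤ Q) (hY : Y ≤ Q)
    (hXA : A ≤ Subgroup.normalizer (X : Set G)) (hYA : A ≤ Subgroup.normalizer (Y : Set G))
    (hfac : ∀ a ∈ A, a ≠ 1 → ∀ k ∈ Q ⊓ Subgroup.centralizer {a},
      ∃ x ∈ X ⊓ Subgroup.centralizer {a}, ∃ y ∈ Y ⊓ Subgroup.centralizer {a}, x * y = k) :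
    ∀ k ∈ Q, ∃ x ∈ X, ∃ y ∈ Y, x * y = k := by
  induction hn : Nat.card Q using Nat.strong_induction_on generalizing Q Y with
  | _ n ih =>
  subst hn
  intro k hk
  by_cases hXQ : X = Q
  · exact ⟨k, hXQ ▸ hk, 1, Y.one_mem, mul_one k⟩
  set M' : Subgroup Q := X.subgroupOf Q ⊔ frattini Q with hM'
  set M : Subgroup G := M'.map Q.subtype with hMdef
  have hMQ : M ≤ Q := Subgroup.map_subtype_le _
  have hXM : X ≤ M := fun x hx => ⟨⟨x, hX hx⟩, Subgroup.mem_sup_left hx, rfl⟩
  have hMne : M' ≠ ⊤ := fun h => hXQ (le_antisymm hX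
    (Subgroup.subgroupOf_eq_top.1 (frattini_nongenerating h)))
  have hM'n : M'.Normal := Subgroup.Normal.of_commutator_le (G := Q) (H := M')
    ((PGroup.commutator_le_frattini hQ).trans le_sup_right)
  have hMA : A ≤ Subgroup.normalizer (M : Set G) := fun a ha => by
    refine mem_normalizer_of_forall ?_
    rintro _ ⟨x, hx, rfl⟩
    refine ⟨Q.normalizerMonoidHom ⟨a, hAQ ha⟩ x, ?_, rfl⟩
    have h1 : M' ≤ M'.comap (Q.normalizerMonoidHom ⟨a, hAQ ha⟩).toMonoidHom := sup_le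
      (fun z hz => Subgroup.mem_sup_left ((Subgroup.mem_normalizer_iff.1 (hXA ha) _).1 hz))
      (fun z hz => Subgroup.mem_sup_right
        ((Subgroup.characteristic_iff_le_comap.1 inferInstance _) hz))
    exact h1 hx
  have hlt : Nat.card M < Nat.card Q := by
    refine (Subgroup.card_le_of_le hMQ).lt_of_ne fun he => hMne ?_
    refine Subgroup.map_injective Q.subtype_injective ?_
    rw [← hMdef, Subgroup.eq_of_le_of_card_ge hMQ he.ge, ← MonoidHom.range_eq_map,
      Subgroup.range_subtype]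
  have hM := ih _ hlt (Y := Y ⊓ M) (hQ.to_le hMQ) hMA
    (hcop.coprime_dvd_right (Subgroup.card_dvd_of_le hMQ)) hXM inf_le_right
    (fun a ha => mem_normalizer_of_forall fun z hz =>
      ⟨(Subgroup.mem_normalizer_iff.1 (hYA ha) z).1 hz.1,
        (Subgroup.mem_normalizer_iff.1 (hMA ha) z).1 hz.2⟩)
    (fun a ha ha1 m hm => by
      obtain ⟨x, hx, y, hy, rfl⟩ := hfac a ha ha1 m ⟨hMQ hm.1, hm.2⟩
      refine ⟨x, hx, y, ⟨⟨hy.1, ?_⟩, hy.2⟩, rfl⟩
      have h1 : y = x⁻¹ * (x * y) := by group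
      rw [h1]
      exact M.mul_mem (M.inv_mem (hXM hx.1)) hm.1) rfl
  have hYN : Y ≤ Subgroup.normalizer (M : Set G) := fun y hy => by
    refine mem_normalizer_of_forall ?_
    rintro _ ⟨z, hz, rfl⟩
    exact ⟨(⟨y, hY hy⟩ : Q) * z * (⟨y, hY hy⟩ : Q)⁻¹, hM'n.conj_mem z hz _, rfl⟩
  have hgen : Q ≤ M ⊔ Y := by
    refine le_of_noncyclic hA hAQ hcop fun a ha ha1 m hm => ?_
    obtain ⟨x, hx, y, hy, rfl⟩ := hfac a ha ha1 m hm
    exact Subgroup.mul_mem_sup (hXM hx.1) hy.1
  obtain ⟨m, hm, y, hy, rfl⟩ := (mem_sup_iff hYN).1 (hgen hk)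
  obtain ⟨x, hx, y', hy', rfl⟩ := hM m hm
  exact ⟨x, hx, y' * y, Y.mul_mem hy'.1 hy, (mul_assoc _ _ _).symm⟩

/-- If `C_K(a) = C_X(a) C_Y(a)` for all nonidentity `a` in a noncyclic abelian `A` acting coprimely
and `C_K(A)` normalises `X`, then `K = X Y`. -/
theorem le_mul_of_centralizers [IsMulCommutative A] (hA : ¬ IsCyclic A)
    (hAK : A ≤ Subgroup.normalizer (K : Set G)) (hcop : (Nat.card A).Coprime (Nat.card K))
    {X Y : Subgroup G} (hX : X ≤ K) (hY : Y ≤ K)
    (hXA : A ≤ Subgroup.normalizer (X : Set G)) (hYA : A ≤ Subgroup.normalizer (Y : Set G))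
    (hCX : K ⊓ Subgroup.centralizer (A : Set G) ≤ Subgroup.normalizer (X : Set G))
    (hfac : ∀ a ∈ A, a ≠ 1 → ((K ⊓ Subgroup.centralizer {a} : Subgroup G) : Set G) =
      ((X ⊓ Subgroup.centralizer {a} : Subgroup G) : Set G) *
        ((Y ⊓ Subgroup.centralizer {a} : Subgroup G) : Set G)) :
    (K : Set G) = (X : Set G) * (Y : Set G) := by
  have hsA : Group.IsSolvable A := inferInstance
  have hsub : (X : Set G) * (Y : Set G) ⊆ (K : Set G) := by
    rintro _ ⟨x, hx, y, hy, rfl⟩; exact K.mul_mem (hX hx) (hY hy)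
  have : Nonempty ((X : Set G) * (Y : Set G) : Set G) :=
    ⟨⟨1, Set.mem_mul.2 ⟨1, X.one_mem, 1, Y.one_mem, one_mul 1⟩⟩⟩
  have hpos : Nat.card ((X : Set G) * (Y : Set G) : Set G) ≠ 0 := Nat.card_pos.ne'
  have hle : Nat.card K ≤ Nat.card ((X : Set G) * (Y : Set G) : Set G) := by
    refine Nat.le_of_dvd (Nat.pos_of_ne_zero hpos) ?_
    rw [← Nat.factorization_le_iff_dvd Nat.card_pos.ne' hpos, Finsupp.le_def]
    intro q
    by_cases hq : q.Prime
    swap
    · simp [Nat.factorization_eq_zero_of_not_prime _ hq]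
    have := Fact.mk hq
    set I : Subgroup G := X ⊓ Y with hI
    have hIA : A ≤ Subgroup.normalizer (I : Set G) := fun a ha =>
      mem_normalizer_of_forall fun z hz => ⟨(Subgroup.mem_normalizer_iff.1 (hXA ha) z).1 hz.1,
        (Subgroup.mem_normalizer_iff.1 (hYA ha) z).1 hz.2⟩
    obtain ⟨D, -, hDI, hDA, hD⟩ := exists_invariant_card hIA
      (hcop.coprime_dvd_right (Subgroup.card_dvd_of_le (inf_le_left.trans hX)))
      (Or.inl hsA) q bot_le IsPGroup.of_bot (bot_normalised A)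
    obtain ⟨E, hDE, hEY, hEA, hE⟩ := exists_invariant_card hYA
      (hcop.coprime_dvd_right (Subgroup.card_dvd_of_le hY)) (Or.inl hsA) q
      (hDI.trans inf_le_right) (isPGroup_of_card hD) hDA
    obtain ⟨Q, hEQ, hQK, hQA, hQ⟩ := exists_invariant_card hAK hcop (Or.inl hsA) q
      (hEY.trans hY) (isPGroup_of_card hE) hEA
    have hQp := isPGroup_of_card hQ
    have hQX := card_inf_eq_of_invariant hAK hcop (Or.inl hsA) hQK hX hQA hXA hCX hQ
    have hQY : Nat.card (Q ⊓ Y : Subgroup G) = q ^ (Nat.card Y).factorization q :=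
      le_antisymm (card_le_of_isPGroup (hQp.to_le inf_le_left) inf_le_right)
        (hE ▸ Subgroup.card_le_of_le (le_inf hEQ hEY))
    have hQI : Nat.card (Q ⊓ I : Subgroup G) = q ^ (Nat.card I).factorization q :=
      le_antisymm (card_le_of_isPGroup (hQp.to_le inf_le_left) inf_le_right)
        (hD ▸ Subgroup.card_le_of_le (le_inf (hDE.trans hEQ) hDI))
    have hinfA : ∀ {S T : Subgroup G}, A ≤ Subgroup.normalizer (S : Set G) →
        A ≤ Subgroup.normalizer (T : Set G) →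
        A ≤ Subgroup.normalizer ((S ⊓ T : Subgroup G) : Set G) := fun hS hT a ha =>
      mem_normalizer_of_forall fun z hz => ⟨(Subgroup.mem_normalizer_iff.1 (hS ha) z).1 hz.1,
        (Subgroup.mem_normalizer_iff.1 (hT ha) z).1 hz.2⟩
    have hfacQ : ∀ a ∈ A, a ≠ 1 → ∀ k ∈ Q ⊓ Subgroup.centralizer {a},
        ∃ x ∈ (Q ⊓ X) ⊓ Subgroup.centralizer {a},
          ∃ y ∈ (Q ⊓ Y) ⊓ Subgroup.centralizer {a}, x * y = k := by
      intro a ha ha1 k hk
      set Ca := Subgroup.centralizer ({a} : Set G) with hCa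
      have hS := card_inf_centralizer_eq hAK hcop hQK hQA hQ ha
      have hSX := card_inf_centralizer_eq hXA
        (hcop.coprime_dvd_right (Subgroup.card_dvd_of_le hX)) inf_le_right
        (hinfA hQA hXA) hQX ha
      have hSY := card_inf_centralizer_eq hYA
        (hcop.coprime_dvd_right (Subgroup.card_dvd_of_le hY)) inf_le_right
        (hinfA hQA hYA) hQY ha
      have hSI := card_inf_centralizer_eq hIA
        (hcop.coprime_dvd_right (Subgroup.card_dvd_of_le (inf_le_left.trans hX))) inf_le_right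
        (hinfA hQA hIA) hQI ha
      have h1 := card_mul_inf (X ⊓ Ca) (Y ⊓ Ca)
      rw [← hfac a ha ha1, inf_inf_inf_comm, inf_idem, ← hI] at h1
      have h1' : Nat.card (K ⊓ Ca : Subgroup G) * Nat.card (I ⊓ Ca : Subgroup G) =
          Nat.card (X ⊓ Ca : Subgroup G) * Nat.card (Y ⊓ Ca : Subgroup G) := h1
      have h1q := congrArg (fun n => n.factorization q) h1'
      simp only [Nat.factorization_mul Nat.card_pos.ne' Nat.card_pos.ne',
        Finsupp.add_apply] at h1q
      have h2 := card_mul_inf ((Q ⊓ X) ⊓ Ca) ((Q ⊓ Y) ⊓ Ca)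
      have e : (Q ⊓ X) ⊓ Ca ⊓ ((Q ⊓ Y) ⊓ Ca) = (Q ⊓ I) ⊓ Ca := by
        rw [hI]; ext; simp only [Subgroup.mem_inf]; tauto
      rw [e, hSX, hSY, hSI, ← pow_add, ← h1q, pow_add, ← hS] at h2
      have h3 := Nat.eq_of_mul_eq_mul_right (Nat.pow_pos hq.pos) h2
      have h4 : ((Q ⊓ X ⊓ Ca : Subgroup G) : Set G) * ((Q ⊓ Y ⊓ Ca : Subgroup G) : Set G) =
          ((Q ⊓ Ca : Subgroup G) : Set G) := by
        refine Set.eq_of_subset_of_ncard_le ?_ ?_
        · rintro _ ⟨x, hx, y, hy, rfl⟩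
          exact ⟨Q.mul_mem hx.1.1 hy.1.1, Ca.mul_mem hx.2 hy.2⟩
        · rw [← Nat.card_coe_set_eq, ← Nat.card_coe_set_eq, h3]
          exact le_rfl
      rw [← SetLike.mem_coe, ← h4] at hk
      obtain ⟨x, hx, y, hy, h⟩ := hk
      exact ⟨x, hx, y, hy, h⟩
    have hQfac := le_mul_of_isPGroup hA hQp hQA
      (hcop.coprime_dvd_right (Subgroup.card_dvd_of_le hQK)) inf_le_left inf_le_left
      (hinfA hQA hXA) (hinfA hQA hYA) hfacQ
    have hQeq : ((Q ⊓ X : Subgroup G) : Set G) * ((Q ⊓ Y : Subgroup G) : Set G) = (Q : Set G) := by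
      refine Set.Subset.antisymm ?_ fun k hk => ?_
      · rintro _ ⟨x, hx, y, hy, rfl⟩; exact Q.mul_mem hx.1 hy.1
      · obtain ⟨x, hx, y, hy, h⟩ := hQfac k hk
        exact ⟨x, hx, y, hy, h⟩
    have h5 := card_mul_inf (Q ⊓ X) (Q ⊓ Y)
    rw [hQeq, ← inf_inf_distrib_left, hQI, hQX, hQY, ← pow_add] at h5
    have h5' : q ^ ((Nat.card K).factorization q + (Nat.card I).factorization q) =
        q ^ ((Nat.card X).factorization q + (Nat.card Y).factorization q) := by
      rw [← h5, pow_add, ← hQ]; rfl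
    have h5q := Nat.pow_right_injective hq.two_le h5'
    have h6 := congrArg (fun n => n.factorization q) (card_mul_inf X Y)
    simp only [Nat.factorization_mul hpos Nat.card_pos.ne',
      Nat.factorization_mul Nat.card_pos.ne' Nat.card_pos.ne', Finsupp.add_apply, ← hI] at h6
    omega
  refine (Set.eq_of_subset_of_ncard_le hsub ?_).symm
  rw [← Nat.card_coe_set_eq, ← Nat.card_coe_set_eq]
  exact hle
where
  bot_normalised (A : Subgroup G) : A ≤ Subgroup.normalizer ((⊥ : Subgroup G) : Set G) := by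
    rw [Subgroup.normalizer_eq_top]; exact le_top

end Cfsg.Agent.Coprime
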