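import Cfsg.Agent.Lib.Coprime.Invariant
import Cfsg.Agent.Lib.Coprime.Frattini
import Cfsg.Agent.Lib.PGroup.Basic

/-!
# Thompson's `P × Q` lemma and companions

* `eq_bot_of_le_commutator`: `U ≤ [U, P]` inside a nilpotent subgroup forces `U = ⊥`
* `coprime_of_isPGroup`
* `thompson_pq`: the `P × Q` lemma
* `le_centralizer_of_centralizer_le`: `C_H(C_H(A)) ≤ C_H(A)`, `H` nilpotent, implies `A` trivial
* `le_centralizer_of_fixing_order_p`: odd `p`, fixing all elements of order `p`
-/

set_option autoImplicit false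

namespace Cfsg.Agent.Coprime

open scoped Pointwise commutatorElement

variable {G : Type*} [Group G]

theorem eq_bot_of_le_commutator {S U : Subgroup G} (hU : U ≤ S) (hS : Group.IsNilpotent S)
    (h : U ≤ ⁅U, S⁆) : U = ⊥ := by
  obtain ⟨n, hn⟩ := Subgroup.nilpotent_iff_lowerCentralSeries.mp hS
  have key : ∀ k, U ≤ ((⊤ : Subgroup S).lowerCentralSeries k).map S.subtype := by
    intro k
    induction k with
    | zero => simpa [← MonoidHom.range_eq_map] using hU
    | succ k ih =>
      rw [Subgroup.lowerCentralSeries_succ, Subgroup.map_commutator, ← MonoidHom.range_eq_map,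
        Subgroup.range_subtype]
      exact h.trans (Subgroup.commutator_mono ih le_rfl)
  rw [eq_bot_iff, ← Subgroup.map_bot S.subtype, ← hn]
  exact key n

variable [Finite G]

theorem coprime_of_isPGroup {A U : Subgroup G} {p : ℕ} [hp : Fact p.Prime]
    (hA : (Nat.card A).Coprime p) (hU : IsPGroup p U) :
    (Nat.card A).Coprime (Nat.card U) := by
  obtain ⟨n, hn⟩ := IsPGroup.iff_card.1 hU
  rw [hn]; exact hA.pow_right n

theorem isSolvable_of_isPGroup {U : Subgroup G} {p : ℕ} [Fact p.Prime] (hU : IsPGroup p U) :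
    Group.IsSolvable U :=
  have := hU.isNilpotent
  inferInstance

omit [Finite G] in
/-- `[U, Q]` is normalised by whoever normalises both. -/
theorem le_normalizer_commutator {U Q X : Subgroup G} (hU : X ≤ Subgroup.normalizer (U : Set G))
    (hQ : X ≤ Subgroup.normalizer (Q : Set G)) :
    X ≤ Subgroup.normalizer (⁅U, Q⁆ : Subgroup G) := by
  intro x hx
  refine mem_normalizer_of_conj_eq ?_
  have key : ∀ S : Subgroup G, S.map (MulAut.conj x).toMonoidHom = MulAut.conj x • S :=
    fun _ => rfl
  rw [← key, Subgroup.map_commutator, key, key, conj_eq_of_mem_normalizer (hU hx),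
    conj_eq_of_mem_normalizer (hQ hx)]

omit [Finite G] in
theorem le_normalizer_of_le_centralizer {X Y : Subgroup G}
    (h : X ≤ Subgroup.centralizer (Y : Set G)) : X ≤ Subgroup.normalizer (Y : Set G) :=
  h.trans (Subgroup.centralizer_le_normalizer _)

/-- Thompson's `P × Q` lemma. -/
theorem thompson_pq (p : ℕ) [hp : Fact p.Prime] {P Q U : Subgroup G} (hP : IsPGroup p P)
    (hQ : (Nat.card Q).Coprime p) (hU : IsPGroup p U)
    (hPQ : P ≤ Subgroup.centralizer (Q : Set G))
    (hPU : P ≤ Subgroup.normalizer (U : Set G)) (hQU : Q ≤ Subgroup.normalizer (U : Set G))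
    (hC : U ⊓ Subgroup.centralizer (P : Set G) ≤ Subgroup.centralizer (Q : Set G)) :
    Q ≤ Subgroup.centralizer (U : Set G) := by
  induction hn : Nat.card U using Nat.strong_induction_on generalizing U with
  | _ n ih =>
  subst hn
  by_cases hU1 : U = ⊥
  · subst hU1
    intro q _ u hu
    rw [Subgroup.mem_bot.1 hu, one_mul, mul_one]
  have hle : ⁅U, P⁆ ≤ U := Subgroup.le_normalizer_iff_commutator_le_left.1 hPU
  have hlt : ⁅U, P⁆ < U := lt_of_le_of_ne hle fun he => hU1 <| by
    have hS : IsPGroup p (P ⊔ U : Subgroup G) := hP.to_sup_of_normal_right' hU hPU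
    exact eq_bot_of_le_commutator le_sup_right hS.isNilpotent
      (he.ge.trans (Subgroup.commutator_mono le_rfl le_sup_left))
  have h1 : Q ≤ Subgroup.centralizer (⁅U, P⁆ : Subgroup G) := by
    refine ih _ ?_ (hU.to_le hle)
      (le_normalizer_commutator hPU Subgroup.le_normalizer)
      (le_normalizer_commutator hQU (le_normalizer_of_le_centralizer
        (Subgroup.le_centralizer_iff.1 hPQ)))
      ((inf_le_inf_right _ hle).trans hC) rfl
    exact (Subgroup.card_le_of_le hle).lt_of_ne
      fun he => hlt.ne (Subgroup.eq_of_le_of_card_ge hle he.ge)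
  have h2 : ⁅⁅Q, U⁆, P⁆ = ⊥ := by
    refine Subgroup.commutator_commutator_eq_bot_of_rotate ?_ ?_
    · rw [Subgroup.commutator_comm, Subgroup.commutator_eq_bot_iff_le_centralizer]
      exact h1
    · rw [Subgroup.commutator_eq_bot_iff_le_centralizer.2 hPQ, Subgroup.commutator_bot_left]
  have h3 : ⁅U, Q⁆ ≤ Subgroup.centralizer (Q : Set G) := by
    refine le_trans (le_inf (Subgroup.le_normalizer_iff_commutator_le_left.1 hQU) ?_) hC
    rw [Subgroup.commutator_comm]
    exact Subgroup.commutator_eq_bot_iff_le_centralizer.1 h2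
  have h4 := commutator_commutator_eq hQU (coprime_of_isPGroup hQ hU)
    (Or.inr (isSolvable_of_isPGroup hU))
  rw [Subgroup.commutator_eq_bot_iff_le_centralizer.2 h3] at h4
  rw [← Subgroup.commutator_eq_bot_iff_le_centralizer, Subgroup.commutator_comm, ← h4]

/-- If `C_H(C_H(A)) ≤ C_H(A)` with `H` nilpotent then `A` centralises `H`. -/
theorem le_centralizer_of_centralizer_le {H A : Subgroup G} (hH : Group.IsNilpotent H)
    (hA : A ≤ Subgroup.normalizer (H : Set G)) (hcop : (Nat.card A).Coprime (Nat.card H))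
    (hC : H ⊓ Subgroup.centralizer ((H ⊓ Subgroup.centralizer (A : Set G) : Subgroup G) : Set G) ≤
      H ⊓ Subgroup.centralizer (A : Set G)) :
    A ≤ Subgroup.centralizer (H : Set G) := by
  set C : Subgroup G := H ⊓ Subgroup.centralizer (A : Set G) with hCdef
  suffices hCH : C = H by
    rw [← hCH]
    exact Subgroup.le_centralizer_iff.1 inf_le_right
  by_contra hne
  have hCle : C ≤ H := inf_le_left
  have hlt : (C.subgroupOf H) < ⊤ := by
    rw [lt_top_iff_ne_top, Ne, Subgroup.subgroupOf_eq_top]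
    exact fun h => hne (le_antisymm hCle h)
  obtain ⟨⟨r, hrH⟩, hr, hrC⟩ :=
    SetLike.exists_of_lt (Group.normalizerCondition_of_isNilpotent (h := hH) _ hlt)
  set N : Subgroup G := H ⊓ Subgroup.normalizer (C : Set G) with hN
  have hrN : r ∈ N := ⟨hrH, mem_normalizer_of_forall fun x hx =>
    (Subgroup.mem_normalizer_iff.1 hr ⟨x, hCle hx⟩).1 hx⟩
  have hAC : A ≤ Subgroup.centralizer (C : Set G) := Subgroup.le_centralizer_iff.1 inf_le_right
  have hAN : A ≤ Subgroup.normalizer (N : Set G) := fun a ha => mem_normalizer_of_forall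
    fun x hx => ⟨(Subgroup.mem_normalizer_iff.1 (hA ha) x).1 hx.1,
      Subgroup.mul_mem _ (Subgroup.mul_mem _ (le_normalizer_of_le_centralizer hAC ha) hx.2)
        (Subgroup.inv_mem _ (le_normalizer_of_le_centralizer hAC ha))⟩
  have h2 : ⁅⁅A, N⁆, C⁆ = ⊥ := by
    refine Subgroup.commutator_commutator_eq_bot_of_rotate ?_ ?_
    · rw [Subgroup.commutator_eq_bot_iff_le_centralizer]
      exact (Subgroup.le_normalizer_iff_commutator_le_right.1 inf_le_right).trans inf_le_right
    · rw [Subgroup.commutator_eq_bot_iff_le_centralizer.2 inf_le_right,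
        Subgroup.commutator_bot_left]
  have h3 : ⁅N, A⁆ ≤ Subgroup.centralizer (A : Set G) := by
    refine le_trans (le_inf ((commutator_le_left' hAN).trans inf_le_left) ?_)
      (hC.trans inf_le_right)
    rw [Subgroup.commutator_comm]
    exact Subgroup.commutator_eq_bot_iff_le_centralizer.1 h2
  have hs : Group.IsSolvable H := inferInstance
  have h4 := commutator_commutator_eq hAN
    (hcop.coprime_dvd_right (Subgroup.card_dvd_of_le inf_le_left))
    (Or.inr (isSolvable_of_le inf_le_left hs))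
  rw [Subgroup.commutator_eq_bot_iff_le_centralizer.2 h3] at h4
  exact hrC ⟨hrH, Subgroup.commutator_eq_bot_iff_le_centralizer.1 h4.symm hrN⟩

/-- A coprime action on a `p`-group, `p` odd, fixing every element of order `p`, is trivial. -/
theorem le_centralizer_of_fixing_order_p (p : ℕ) [hp : Fact p.Prime] (hp2 : p ≠ 2)
    {A D : Subgroup G} (hD : IsPGroup p D) (hA : A ≤ Subgroup.normalizer (D : Set G))
    (hcop : (Nat.card A).Coprime p)
    (hfix : ∀ x ∈ D, orderOf x = p → x ∈ Subgroup.centralizer (A : Set G)) :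
    A ≤ Subgroup.centralizer (D : Set G) := by
  induction hn : Nat.card D using Nat.strong_induction_on generalizing D with
  | _ n ih =>
  subst hn
  have hcopD := coprime_of_isPGroup hcop hD
  have hsolv := isSolvable_of_isPGroup hD
  have hsub : ∀ M : Subgroup G, M < D → A ≤ Subgroup.normalizer (M : Set G) →
      A ≤ Subgroup.centralizer (M : Set G) := fun M hM hAM =>
    ih _ ((Subgroup.card_le_of_le hM.le).lt_of_ne
      fun he => hM.ne (Subgroup.eq_of_le_of_card_ge hM.le he.ge))
      (hD.to_le hM.le) hAM (fun x hx => hfix x (hM.le hx)) rfl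
  have hcc := commutator_commutator_eq hA hcopD (Or.inr hsolv)
  have fin : ⁅D, A⁆ ≤ Subgroup.centralizer (A : Set G) → A ≤ Subgroup.centralizer (D : Set G) := by
    intro h
    rw [Subgroup.commutator_eq_bot_iff_le_centralizer.2 h] at hcc
    exact Subgroup.le_centralizer_iff.1
      (Subgroup.commutator_eq_bot_iff_le_centralizer.1 hcc.symm)
  rcases (commutator_le_left' hA).lt_or_eq with hlt | heq
  · exact fin (Subgroup.le_centralizer_iff.1
      (hsub _ hlt (le_normalizer_commutator hA Subgroup.le_normalizer)))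
  refine fin ?_
  by_cases hD1 : D = ⊥
  · rw [hD1, Subgroup.commutator_bot_left]; exact bot_le
  set M : Subgroup G := (frattini D).map D.subtype with hMdef
  have hMlt : M < D := lt_of_le_of_ne (Subgroup.map_subtype_le _) fun he => hD1 <| by
    have h1 : frattini D = ⊤ := Subgroup.map_injective D.subtype_injective (by
      rw [← hMdef, he, ← MonoidHom.range_eq_map, Subgroup.range_subtype])
    have h2 : (⊥ : Subgroup D) = ⊤ := frattini_nongenerating (by rw [bot_sup_eq, h1])
    rw [← Subgroup.range_subtype D, MonoidHom.range_eq_map, ← h2, Subgroup.map_bot]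
  have hAM : A ≤ Subgroup.normalizer (M : Set G) := fun a ha => by
    refine mem_normalizer_of_forall ?_
    rintro _ ⟨x, hx, rfl⟩
    refine ⟨D.normalizerMonoidHom ⟨a, hA ha⟩ x, ?_, rfl⟩
    exact (Subgroup.characteristic_iff_le_comap.1 inferInstance _) hx
  have hMC : A ≤ Subgroup.centralizer (M : Set G) := hsub M hMlt hAM
  -- `M` is central in `D`
  have hMD : D ≤ Subgroup.centralizer (M : Set G) := by
    have h1 : ⁅⁅D, A⁆, M⁆ = ⊥ := by
      refine Subgroup.commutator_commutator_eq_bot_of_rotate ?_ ?_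
      · rw [Subgroup.commutator_eq_bot_iff_le_centralizer.2 hMC, Subgroup.commutator_bot_left]
      · rw [Subgroup.commutator_eq_bot_iff_le_centralizer]
        refine le_trans ?_ (Subgroup.le_centralizer_iff.1 hMC)
        rw [Subgroup.commutator_le]
        intro m hm d hd
        exact ⟨⁅(⟨m, Subgroup.map_subtype_le _ hm⟩ : D), ⟨d, hd⟩⁆,
          PGroup.commutatorElement_mem_frattini hD _ _, rfl⟩
    rw [heq] at h1
    exact Subgroup.commutator_eq_bot_iff_le_centralizer.1 h1
  rw [Subgroup.commutator_le]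
  intro x hx a ha
  set y : D := D.normalizerMonoidHom ⟨a, hA ha⟩ ⟨x, hx⟩ with hy
  set u : D := (⟨x, hx⟩ : D)⁻¹ with hu
  have hcen : ∀ z : D, z ∈ frattini D → ∀ w : D, Commute w z := fun z hz w =>
    Subtype.ext (hMD w.2 (z : G) ⟨z, hz, rfl⟩).symm
  have hpowp : y ^ p = (⟨x, hx⟩ : D) ^ p := by
    have h1 := hMC ha ((x : G) ^ p) ⟨(⟨x, hx⟩ : D) ^ p, PGroup.pow_mem_frattini hD _, by simp⟩
    refine Subtype.ext ?_
    rw [hy]
    show (a * x * a⁻¹) ^ p = x ^ p
    rw [conj_pow, mul_inv_eq_iff_eq_mul]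
    exact h1.symm
  have hc : ⁅y, u⁆ ^ p = 1 := by
    have hcy : Commute y ⁅y, u⁆ := hcen _ (PGroup.commutatorElement_mem_frattini hD _ _) y
    rw [← PGroup.commutator_pow_left hcy p, commutatorElement_eq_one_iff_commute]
    exact (hcen _ (PGroup.pow_mem_frattini hD _) u).symm
  have hzp : (u * y) ^ p = 1 := by
    rw [PGroup.mul_pow_prime_eq hp.out hp2
      (hcen _ (PGroup.commutatorElement_mem_frattini hD _ _) u)
      (hcen _ (PGroup.commutatorElement_mem_frattini hD _ _) y) hc, hpowp, hu, inv_pow,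
      inv_mul_cancel]
  have hzC : ((u * y : D) : G) ∈ Subgroup.centralizer (A : Set G) := by
    rcases (Nat.dvd_prime hp.out).1 (orderOf_dvd_of_pow_eq_one hzp) with h | h
    · rw [orderOf_eq_one_iff.1 h]; exact Subgroup.one_mem _
    · exact hfix _ (u * y).2 (by rw [Subgroup.orderOf_coe, h])
  -- `[x, a] = (x * (u * y) * x⁻¹)⁻¹`, a conjugate of a central-modulo-`A` element
  have hfix' : ∀ b ∈ A, b * (x * ((u * y : D) : G) * x⁻¹) = x * ((u * y : D) : G) * x⁻¹ * b := by
    intro b hb
    have hm : x * ((u * y : D) : G) * x⁻¹ * ((u * y : D) : G)⁻¹ ∈ M :=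
      ⟨⁅(⟨x, hx⟩ : D), u * y⁆, PGroup.commutatorElement_mem_frattini hD _ _, rfl⟩
    have hmC : x * ((u * y : D) : G) * x⁻¹ * ((u * y : D) : G)⁻¹ ∈
        Subgroup.centralizer (A : Set G) := Subgroup.le_centralizer_iff.1 hMC hm
    have := Subgroup.mul_mem _ hmC hzC
    rw [inv_mul_cancel_right] at this
    exact this b hb
  have h5 : ⁅x, a⁆ = (x * ((u * y : D) : G) * x⁻¹)⁻¹ := by
    rw [hu, hy]
    show x * a * x⁻¹ * a⁻¹ = (x * (x⁻¹ * (a * x * a⁻¹)) * x⁻¹)⁻¹
    group
  rw [h5]
  exact Subgroup.inv_mem _ hfix'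

end Cfsg.Agent.Coprime
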