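import Cfsg.Agent.Lib.Coprime.Invariant

/-!
# Coprime action of a group by automorphisms (`MulDistribMulAction A G`)

Transfer to the subgroups `embK`, `embA` of the semidirect product:
* `toSemi`: the semidirect product, `embK`, `embA`, `embA_le_normalizer`, `card_embK`, `card_embA`
* `exists_smul_invariant_sylow`, `exists_smul_fixed_of_coset`
-/

set_option autoImplicit false

namespace Cfsg.Agent.Coprime

variable (A G : Type*) [Group A] [Group G] [MulDistribMulAction A G]

/-- The semidirect product of `G` by `A`. -/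
abbrev toSemi := SemidirectProduct G A (MulDistribMulAction.toMulAut A G)

/-- `G` inside the semidirect product. -/
abbrev embK : Subgroup (toSemi A G) :=
  (SemidirectProduct.inl : G →* toSemi A G).range

/-- `A` inside the semidirect product. -/
abbrev embA : Subgroup (toSemi A G) :=
  (SemidirectProduct.inr : A →* toSemi A G).range

theorem embA_le_normalizer :
    embA A G ≤ Subgroup.normalizer (embK A G : Set (toSemi A G)) := by
  have : (embK A G).Normal := by
    rw [embK, SemidirectProduct.range_inl_eq_ker_rightHom]; infer_instance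
  rw [Subgroup.normalizer_eq_top]; exact le_top

theorem card_embK : Nat.card (embK A G) = Nat.card G :=
  (Nat.card_congr (MonoidHom.ofInjective (f := (SemidirectProduct.inl : G →* toSemi A G))
    SemidirectProduct.inl_injective).toEquiv).symm

theorem card_embA : Nat.card (embA A G) = Nat.card A :=
  (Nat.card_congr (MonoidHom.ofInjective (f := (SemidirectProduct.inr : A →* toSemi A G))
    SemidirectProduct.inr_injective).toEquiv).symm

variable {A G}

theorem inr_conj_inl (a : A) (g : G) :
    (SemidirectProduct.inr a : toSemi A G) * SemidirectProduct.inl g * (SemidirectProduct.inr a)⁻¹ =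
      SemidirectProduct.inl (a • g) := by
  rw [← map_inv]
  exact (SemidirectProduct.inl_aut (φ := MulDistribMulAction.toMulAut A G) a g).symm

theorem hsolv_emb (hsolv : Group.IsSolvable A ∨ Group.IsSolvable G) :
    Group.IsSolvable (embA A G) ∨ Group.IsSolvable (embK A G) := by
  rcases hsolv with h | h
  · exact Or.inl (Group.isSolvable_of_surjective
      (f := (SemidirectProduct.inr : A →* toSemi A G).rangeRestrict)
      (MonoidHom.rangeRestrict_surjective _))
  · exact Or.inr (Group.isSolvable_of_surjective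
      (f := (SemidirectProduct.inl : G →* toSemi A G).rangeRestrict)
      (MonoidHom.rangeRestrict_surjective _))

variable [Finite A] [Finite G]

theorem exists_smul_invariant_sylow (hcop : (Nat.card A).Coprime (Nat.card G))
    (hsolv : Group.IsSolvable A ∨ Group.IsSolvable G) (p : ℕ) [Fact p.Prime] :
    ∃ P : Sylow p G, ∀ (a : A), ∀ x ∈ P, a • x ∈ P := by
  have : Finite (toSemi A G) := Finite.of_equiv _ SemidirectProduct.equivProd.symm
  obtain ⟨Q, hQ⟩ := exists_invariant_sylow (embA_le_normalizer A G)
    (by rw [card_embA, card_embK]; exact hcop) (hsolv_emb hsolv) p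
  let e : G ≃* embK A G := MonoidHom.ofInjective SemidirectProduct.inl_injective
  refine ⟨Q.comapOfInjective e.toMonoidHom e.injective fun y _ => e.surjective y, fun a x hx => ?_⟩
  have h1 := (Subgroup.mem_normalizer_iff.1 (hQ ⟨a, rfl⟩)
    (SemidirectProduct.inl x : toSemi A G)).1 ⟨e x, hx, rfl⟩
  obtain ⟨z, hz, hze⟩ := h1
  rw [inr_conj_inl] at hze
  have hz' : z = e (a • x) := Subtype.ext hze
  exact (hz' ▸ hz : e (a • x) ∈ (Q : Subgroup (embK A G)))

theorem exists_smul_fixed_of_coset (hcop : (Nat.card A).Coprime (Nat.card G))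
    (hsolv : Group.IsSolvable A ∨ Group.IsSolvable G) {N : Subgroup G}
    (hN : ∀ (a : A), ∀ x ∈ N, a • x ∈ N) {g : G} (hg : ∀ a : A, (a • g) * g⁻¹ ∈ N) :
    ∃ c : G, (∀ a : A, a • c = c) ∧ c * g⁻¹ ∈ N := by
  have : Finite (toSemi A G) := Finite.of_equiv _ SemidirectProduct.equivProd.symm
  obtain ⟨c, ⟨⟨c, rfl⟩, hcA⟩, hcg⟩ := exists_mem_centralizer_of_coset (embA_le_normalizer A G)
    (by rw [card_embA, card_embK]; exact hcop) (hsolv_emb hsolv)
    (N := N.map (SemidirectProduct.inl : G →* toSemi A G))
    (by rintro _ ⟨x, -, rfl⟩; exact ⟨x, rfl⟩)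
    (fun u hu => by
      obtain ⟨a, rfl⟩ := hu
      refine mem_normalizer_of_forall ?_
      rintro _ ⟨x, hx, rfl⟩
      rw [inr_conj_inl]
      exact ⟨_, hN a x hx, rfl⟩)
    (k := SemidirectProduct.inl g) ⟨g, rfl⟩ (fun u hu => by
      obtain ⟨a, rfl⟩ := hu
      rw [inr_conj_inl, ← map_inv, ← map_mul]
      exact ⟨_, hg a, rfl⟩)
  refine ⟨c, fun a => ?_, ?_⟩
  · refine SemidirectProduct.inl_injective (φ := MulDistribMulAction.toMulAut A G) ?_
    rw [← inr_conj_inl, mul_inv_eq_iff_eq_mul]
    exact hcA _ ⟨a, rfl⟩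
  · obtain ⟨x, hx, hxe⟩ := hcg
    rw [← map_inv, ← map_mul] at hxe
    exact SemidirectProduct.inl_injective hxe ▸ hx

end Cfsg.Agent.Coprime
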