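/-
Involutive automorphisms of groups of odd order.

* `inverts_of_fpf` : a fixed-point-free involutive endomorphism of a finite group inverts it
* `exists_fixed_lift` : fixed cosets of an invariant subgroup of odd order contain fixed elements
* `mem_closure_eigen` : a commutative group of odd order is generated by the joint eigenvectors of
  commuting involutive endomorphisms
-/
import Cfsg.Agent.EqLemmas
import Mathlib.GroupTheory.Perm.Cycle.Type

set_option autoImplicit false
set_option linter.style.haveILetI false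

namespace Cfsg.Agent.InvolutionEigen

variable {A : Type*} [Group A] [Finite A]

theorem inverts_of_fpf (f : A →* A) (h2 : ∀ x, f (f x) = x) (hfp : ∀ x, f x = x → x = 1) (x : A) :
    f x = x⁻¹ := by
  have hinj : Function.Injective fun y : A => y⁻¹ * f y := fun a b h => by
    have h' : a⁻¹ * f a = b⁻¹ * f b := h
    have h3 : f (b * a⁻¹) = b * a⁻¹ := by
      rw [map_mul, map_inv]
      calc f b * (f a)⁻¹ = b * (b⁻¹ * f b) * (f a)⁻¹ := by group
        _ = b * (a⁻¹ * f a) * (f a)⁻¹ := by rw [h']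
        _ = b * a⁻¹ := by group
    exact (mul_inv_eq_one.1 (hfp _ h3)).symm
  obtain ⟨y, rfl⟩ := Finite.surjective_of_injective hinj x
  show f (y⁻¹ * f y) = (y⁻¹ * f y)⁻¹
  rw [map_mul, map_inv, h2, mul_inv_rev, inv_inv]

theorem exists_fixed_lift (f : A →* A) (h2 : ∀ x, f (f x) = x) (Φ : Subgroup A)
    (hΦ : ∀ y ∈ Φ, f y ∈ Φ) (hodd : Odd (Nat.card Φ)) {x : A} (hx : x⁻¹ * f x ∈ Φ) :
    ∃ c, f c = c ∧ x⁻¹ * c ∈ Φ := by
  classical
  haveI : Fact (Nat.Prime 2) := ⟨Nat.prime_two⟩
  haveI := Fintype.ofFinite Φ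
  let g : Φ → Φ := fun y => ⟨x⁻¹ * f x * f y, Φ.mul_mem hx (hΦ y y.2)⟩
  have hg : Function.Involutive g := fun y => Subtype.ext (by
    show x⁻¹ * f x * f (x⁻¹ * f x * f (y : A)) = y
    rw [map_mul, map_mul, map_inv, h2, h2]
    group)
  obtain ⟨y, hy⟩ := Equiv.Perm.exists_fixed_point_of_prime (p := 2) (n := 1) (σ := hg.toPerm g)
    (by rw [← Nat.card_eq_fintype_card]; exact fun h => Nat.not_even_iff_odd.2 hodd (even_iff_two_dvd.2 h))
    (by rw [pow_one, pow_two]; exact Equiv.ext fun y => hg y)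
  refine ⟨x * y, ?_, by simp⟩
  have h' : x⁻¹ * f x * f (y : A) = y := congrArg Subtype.val hy
  rw [map_mul]
  conv_rhs => rw [← h']
  group

/-- The joint eigenvectors. -/
def eigenSet (s : Set (A →* A)) : Set A := {e | ∀ f ∈ s, f e = e ∨ f e = e⁻¹}

omit [Finite A] in
theorem mem_closure_eigen (hA : ∀ a b : A, a * b = b * a) (hodd : Odd (Nat.card A))
    (s : Set (A →* A)) (hs : s.Finite) (h2 : ∀ f ∈ s, ∀ x, f (f x) = x)
    (hcom : ∀ f ∈ s, ∀ g ∈ s, ∀ x, f (g x) = g (f x)) (v : A) :
    v ∈ Subgroup.closure (eigenSet s) := by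
  induction s, hs using Set.Finite.induction_on generalizing v with
  | empty => exact Subgroup.subset_closure fun f hf => absurd hf (Set.notMem_empty f)
  | @insert f s hfs hs ih =>
    have hle : eigenSet s ⊆ Subgroup.closure (eigenSet (insert f s)) := by
      intro e he
      have hff := h2 f (Set.mem_insert _ _)
      have hfc : ∀ g ∈ s, ∀ x, g (f x) = f (g x) := fun g hg x =>
        hcom g (Set.mem_insert_of_mem _ hg) f (Set.mem_insert _ _) x
      have key : ∀ a b : A, ∀ g ∈ s, (g e = e ∧ (a = e * f e ∨ a = e * (f e)⁻¹) → g a = a) ∧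
          (g e = e⁻¹ ∧ (a = e * f e ∨ a = e * (f e)⁻¹) → g a = a⁻¹) := by
        intro a b g hg
        refine ⟨?_, ?_⟩
        · rintro ⟨h, rfl | rfl⟩ <;> simp [map_mul, map_inv, hfc g hg, h]
        · rintro ⟨h, rfl | rfl⟩
          · rw [map_mul, hfc g hg, h, map_inv, mul_inv_rev, hA]
          · rw [map_mul, map_inv, hfc g hg, h, map_inv, mul_inv_rev, hA]
      have hp : e * f e ∈ eigenSet (insert f s) := by
        rintro g (rfl | hg)
        · exact Or.inl (by rw [map_mul, hff, hA])
        · exact (he g hg).imp (fun h => (key _ e g hg).1 ⟨h, Or.inl rfl⟩)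
            fun h => (key _ e g hg).2 ⟨h, Or.inl rfl⟩
      have hm : e * (f e)⁻¹ ∈ eigenSet (insert f s) := by
        rintro g (rfl | hg)
        · exact Or.inr (by rw [map_mul, map_inv, hff, mul_inv_rev, inv_inv])
        · exact (he g hg).imp (fun h => (key _ e g hg).1 ⟨h, Or.inr rfl⟩)
            fun h => (key _ e g hg).2 ⟨h, Or.inr rfl⟩
      have hsq : e ^ 2 ∈ Subgroup.closure (eigenSet (insert f s)) := by
        have h := Subgroup.mul_mem _ (Subgroup.subset_closure hp) (Subgroup.subset_closure hm)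
        rwa [hA e (f e), mul_assoc (f e), hA e (e * (f e)⁻¹), ← mul_assoc, hA (f e) (e * (f e)⁻¹),
          inv_mul_cancel_right, ← pow_two] at h
      obtain ⟨l, hl⟩ := hodd
      have hex : e = (e ^ 2) ^ (l + 1) := by
        rw [← pow_mul, show 2 * (l + 1) = (2 * l + 1) + 1 by ring, pow_succ, ← hl, pow_card_eq_one',
          one_mul]
      show e ∈ Subgroup.closure (eigenSet (insert f s))
      rw [hex]
      exact Subgroup.pow_mem _ hsq _
    exact (Subgroup.closure_le _).2 hle
      (ih (fun g hg => h2 g (Set.mem_insert_of_mem _ hg))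
        (fun g hg g' hg' => hcom g (Set.mem_insert_of_mem _ hg) g' (Set.mem_insert_of_mem _ hg')) v)

end Cfsg.Agent.InvolutionEigen
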