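import Cfsg.Agent.Lib.Coprime.S4Section
import Cfsg.Agent.Lib.Coprime.Invariant
import Cfsg.Agent.Lib.Cores.Basic
import Cfsg.Agent.Lib.PLocal.Thompson

/-!
# `S₄`-free groups of characteristic 2 with Sylow 2-subgroups of class at most 2

* `relCenter`, `involves_mono`, `IsElementaryAbelian.subgroupOf`
* `le_pCore_of_classTwo`: in such a group every elementary abelian 2-subgroup of largest order
  lies in `O₂`; `thompson_normal_of_classTwo`: `J_e(S)` is normal
-/

set_option autoImplicit false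

namespace Cfsg.Agent.Coprime

open scoped Pointwise commutatorElement

universe u

/-- The elements acting trivially on each member of `S` modulo the central subgroup `V0`. -/
def relCenter {G : Type*} [Group G] (V0 : Subgroup G) (S : Set G) (h : V0 ≤ Subgroup.center G) :
    Subgroup G where
  carrier := {x | ∀ s ∈ S, x * s * x⁻¹ * s⁻¹ ∈ V0}
  one_mem' := fun s _ => by simp [V0.one_mem]
  mul_mem' := by
    intro x y hx hy s hs
    have e : x * y * s * (x * y)⁻¹ * s⁻¹ =
        x * (y * s * y⁻¹ * s⁻¹) * x⁻¹ * (x * s * x⁻¹ * s⁻¹) := by group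
    rw [e, Subgroup.mem_center_iff.1 (h (hy s hs)) x, mul_inv_cancel_right]
    exact V0.mul_mem (hy s hs) (hx s hs)
  inv_mem' := by
    intro x hx s hs
    have e : x⁻¹ * s * x⁻¹⁻¹ * s⁻¹ = x⁻¹ * (x * s * x⁻¹ * s⁻¹)⁻¹ * x := by group
    rw [e, Subgroup.mem_center_iff.1 (h (V0.inv_mem (hx s hs))) x⁻¹, inv_mul_cancel_right]
    exact V0.inv_mem (hx s hs)

theorem involves_mono {X : Type*} [Group X] {G : Type*} [Group G] {H : Subgroup G}
    (h : Cfsg.Involves X H) : Cfsg.Involves X G := by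
  obtain ⟨K, R, hR, ⟨e⟩⟩ := h
  let j : K ≃* K.map H.subtype := K.equivMapOfInjective H.subtype H.subtype_injective
  have hn : (R.map H.subtype).subgroupOf (K.map H.subtype) = (R.subgroupOf K).map j.toMonoidHom := by
    ext ⟨x, y, hy, hxy⟩
    constructor
    · rintro ⟨z, hz, hzx⟩
      have hzy : z = y := H.subtype_injective (hzx.trans hxy.symm)
      exact ⟨⟨y, hy⟩, (hzy ▸ hz : y ∈ R), Subtype.ext hxy⟩
    · rintro ⟨⟨z, hzK⟩, hz, hzx⟩
      exact ⟨z, hz, congrArg Subtype.val hzx⟩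
  have hN : ((R.map H.subtype).subgroupOf (K.map H.subtype)).Normal := by
    rw [hn]; exact hR.map j.toMonoidHom j.surjective
  exact ⟨K.map H.subtype, R.map H.subtype, hN,
    ⟨(QuotientGroup.congr (R.subgroupOf K) _ j hn.symm).symm.trans e⟩⟩

theorem isElementaryAbelian_subgroupOf {G : Type*} [Group G] {p : ℕ} {A : Subgroup G}
    (hA : Cfsg.IsElementaryAbelian p A) (H : Subgroup G) :
    Cfsg.IsElementaryAbelian p (A.subgroupOf H) :=
  have := hA.1
  ⟨⟨⟨fun a b => Subtype.ext (Subtype.ext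
      (setLike_mul_comm (Subgroup.mem_subgroupOf.1 a.2) (Subgroup.mem_subgroupOf.1 b.2)))⟩⟩,
    fun a ha => Subtype.ext (hA.2 a ha)⟩

theorem isElementaryAbelian_map {G H : Type*} [Group G] [Group H] {p : ℕ} {A : Subgroup G}
    (hA : Cfsg.IsElementaryAbelian p A) (f : G →* H) :
    Cfsg.IsElementaryAbelian p (A.map f) := by
  have := hA.1
  refine ⟨⟨⟨?_⟩⟩, ?_⟩
  · rintro ⟨_, a, ha, rfl⟩ ⟨_, b, hb, rfl⟩
    refine Subtype.ext ?_
    show f a * f b = f b * f a
    rw [← map_mul, ← map_mul, setLike_mul_comm ha hb]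
  · rintro _ ⟨a, ha, rfl⟩
    rw [← map_pow, hA.2 a ha, map_one]

theorem le_pCore_of_classTwo {G : Type u} [Group G] [Finite G]
    (hS4 : ¬ Cfsg.Involves (Equiv.Perm (Fin 4)) G)
    (hCQ : Subgroup.centralizer (Cfsg.pCore 2 G : Set G) ≤ Cfsg.pCore 2 G)
    (hcl : ∀ T : Subgroup G, IsPGroup 2 T → ⁅⁅T, T⁆, T⁆ = ⊥)
    {A : Subgroup G} (hA : Cfsg.IsElementaryAbelian 2 A)
    (hmax : ∀ B : Subgroup G, Cfsg.IsElementaryAbelian 2 B → Nat.card B ≤ Nat.card A) :
    A ≤ Cfsg.pCore 2 G := by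
  induction hn : Nat.card G using Nat.strong_induction_on generalizing G with
  | _ n ih =>
  subst hn
  set Q := Cfsg.pCore 2 G with hQdef
  have hQ : IsPGroup 2 Q := Cores.isPGroup_pCore 2 G
  have hQn : Subgroup.normalizer (Q : Set G) = ⊤ := Subgroup.normalizer_eq_top _
  -- proper subgroups containing `Q`
  have hproper : ∀ H : Subgroup G, H ≠ ⊤ → Q ≤ H → ∀ B : Subgroup G, B ≤ H →
      Cfsg.IsElementaryAbelian 2 B → Nat.card B = Nat.card A →
      B ≤ (Cfsg.pCore 2 H).map H.subtype := by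
    intro H hH hQH B hBH hB hBc
    have hlt : Nat.card H < Nat.card G := by
      refine (Subgroup.card_le_card_group H).lt_of_ne fun h => hH ?_
      exact Subgroup.eq_top_of_card_eq H h
    have hle : Q.subgroupOf H ≤ Cfsg.pCore 2 H :=
      Cores.le_pCore inferInstance (hQ.of_equiv (Subgroup.subgroupOfEquivOfLe hQH).symm)
    have hC : Subgroup.centralizer (Cfsg.pCore 2 H : Set H) ≤ Cfsg.pCore 2 H := by
      intro x hx
      refine hle (hCQ fun q hq => ?_)
      exact congrArg Subtype.val (hx ⟨q, hQH hq⟩ (hle hq))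
    have := ih _ hlt (G := H) (fun h => hS4 (involves_mono h)) hC (fun T hT => by
        refine Subgroup.map_injective H.subtype_injective ?_
        rw [Subgroup.map_commutator, Subgroup.map_commutator, Subgroup.map_bot]
        exact hcl _ (hT.map _))
      (A := B.subgroupOf H) (isElementaryAbelian_subgroupOf hB H) (fun C hC => by
        rw [Nat.card_congr (Subgroup.subgroupOfEquivOfLe hBH).toEquiv, hBc,
          ← Subgroup.card_map_of_injective H.subtype_injective]
        exact hmax _ (isElementaryAbelian_map hC H.subtype)) rfl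
    intro b hb
    exact ⟨⟨b, hBH hb⟩, this hb, rfl⟩
  by_contra hAQ
  -- a `2`-subgroup containing `Q` has its commutator subgroup in `Z(Q)`
  set Z := Q ⊓ Subgroup.centralizer (Q : Set G) with hZdef
  have hnQ : ∀ X : Subgroup G, X ≤ Subgroup.normalizer (Q : Set G) := fun X => hQn ▸ le_top
  have hsupQ : ∀ X : Subgroup G, IsPGroup 2 X → IsPGroup 2 (Q ⊔ X : Subgroup G) :=
    fun X hX => hQ.to_sup_of_normal_left' hX (hnQ X)
  have hcomm : ∀ T : Subgroup G, IsPGroup 2 T →
      ⁅T, T⁆ ≤ Z ∧ ⁅T, T⁆ ≤ Subgroup.centralizer (T : Set G) := by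
    intro T hT
    have h1 := Subgroup.commutator_eq_bot_iff_le_centralizer.1 (hcl (Q ⊔ T) (hsupQ T hT))
    have h2 : ⁅T, T⁆ ≤ ⁅Q ⊔ T, Q ⊔ T⁆ := Subgroup.commutator_mono le_sup_right le_sup_right
    have h3 : ⁅T, T⁆ ≤ Subgroup.centralizer (Q : Set G) :=
      (h2.trans h1).trans (Subgroup.centralizer_le (SetLike.coe_subset_coe.2 le_sup_left))
    exact ⟨le_inf (h3.trans hCQ) h3,
      (h2.trans h1).trans (Subgroup.centralizer_le (SetLike.coe_subset_coe.2 le_sup_right))⟩
  have hAp : ∀ B : Subgroup G, Cfsg.IsElementaryAbelian 2 B → IsPGroup 2 B := fun B hB b =>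
    ⟨1, Subtype.ext (by simpa using hB.2 b b.2)⟩
  -- `V = Ω₁(Z(Q))`
  let V : Subgroup G :=
    { carrier := {x | x ∈ Z ∧ x * x = 1}
      one_mem' := ⟨Z.one_mem, one_mul 1⟩
      mul_mem' := by
        rintro x y ⟨hx, hx2⟩ ⟨hy, hy2⟩
        refine ⟨Z.mul_mem hx hy, ?_⟩
        have hxy : y * x = x * y := hx.2 y hy.1
        rw [mul_assoc, ← mul_assoc y, hxy, mul_assoc x y, hy2, mul_one, hx2]
      inv_mem' := by
        rintro x ⟨hx, hx2⟩
        exact ⟨Z.inv_mem hx, by rw [← mul_inv_rev, hx2, inv_one]⟩ }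
  have hVQ : V ≤ Q := fun x hx => hx.1.1
  have hVC : V ≤ Subgroup.centralizer (Q : Set G) := fun x hx => hx.1.2
  have hVel : Cfsg.IsElementaryAbelian 2 V :=
    ⟨⟨⟨fun a b => Subtype.ext (hVC b.2 a.1 (hVQ a.2))⟩⟩, fun a ha => by rw [sq]; exact ha.2⟩
  have := hVel.1
  have hVconj : ∀ (g : G) (x : G), x ∈ V → g * x * g⁻¹ ∈ V := by
    rintro g x ⟨hx, hx2⟩
    have hmem : ∀ y ∈ Q, ∀ h : G, h * y * h⁻¹ ∈ Q := fun y hy h =>
      (Cores.pCore_normal 2 G).conj_mem y hy h
    refine ⟨⟨hmem x hx.1 g, fun q hq => ?_⟩, ?_⟩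
    · have := hx.2 (g⁻¹ * q * g) (by simpa using hmem q hq g⁻¹)
      calc q * (g * x * g⁻¹) = g * (g⁻¹ * q * g * x) * g⁻¹ := by group
        _ = g * (x * (g⁻¹ * q * g)) * g⁻¹ := by rw [this]
        _ = _ := by group
    · rw [show g * x * g⁻¹ * (g * x * g⁻¹) = g * (x * x) * g⁻¹ by group, hx2]; simp
  -- an element centralising `V`, and `Q` modulo `Z(Q)`, lies in `Q`
  have hC1 : ∀ y : G, y ∈ Subgroup.centralizer (V : Set G) →
      (∀ q ∈ Q, y * q * y⁻¹ * q⁻¹ ∈ Z) → y ∈ Q := by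
    have hZn : Z.Normal := by
      have : (Subgroup.centralizer (Q : Set G)).Normal :=
        Subgroup.normal_centralizer
      exact inferInstanceAs (Q ⊓ Subgroup.centralizer (Q : Set G)).Normal
    let C1 : Subgroup G :=
      { carrier := {y | y ∈ Subgroup.centralizer (V : Set G) ∧ ∀ q ∈ Q, y * q * y⁻¹ * q⁻¹ ∈ Z}
        one_mem' := ⟨Subgroup.one_mem _, fun q _ => by simp [Z.one_mem]⟩
        mul_mem' := by
          rintro x y ⟨hxV, hx⟩ ⟨hyV, hy⟩
          refine ⟨Subgroup.mul_mem _ hxV hyV, fun q hq => ?_⟩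
          rw [show x * y * q * (x * y)⁻¹ * q⁻¹ =
            x * (y * q * y⁻¹ * q⁻¹) * x⁻¹ * (x * q * x⁻¹ * q⁻¹) by group]
          exact Z.mul_mem (hZn.conj_mem _ (hy q hq) x) (hx q hq)
        inv_mem' := by
          rintro x ⟨hxV, hx⟩
          refine ⟨Subgroup.inv_mem _ hxV, fun q hq => ?_⟩
          rw [show x⁻¹ * q * x⁻¹⁻¹ * q⁻¹ = x⁻¹ * (x * q * x⁻¹ * q⁻¹)⁻¹ * x⁻¹⁻¹ by group]
          exact hZn.conj_mem _ (Z.inv_mem (hx q hq)) _ }
    have hC1n : C1.Normal := ⟨fun y hy g => by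
      refine ⟨fun v hv => ?_, fun q hq => ?_⟩
      · have := hy.1 (g⁻¹ * v * g) (by simpa using hVconj g⁻¹ v hv)
        calc v * (g * y * g⁻¹) = g * (g⁻¹ * v * g * y) * g⁻¹ := by group
          _ = g * (y * (g⁻¹ * v * g)) * g⁻¹ := by rw [this]
          _ = _ := by group
      · have := hy.2 (g⁻¹ * q * g) (by
          simpa using (Cores.pCore_normal 2 G).conj_mem q hq g⁻¹)
        rw [show g * y * g⁻¹ * q * (g * y * g⁻¹)⁻¹ * q⁻¹ =
          g * (y * (g⁻¹ * q * g) * y⁻¹ * (g⁻¹ * q * g)⁻¹) * g⁻¹ by group]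
        exact hZn.conj_mem _ this g⟩
    suffices hp : IsPGroup 2 C1 from fun y h1 h2 => Cores.le_pCore hC1n hp ⟨h1, h2⟩
    obtain ⟨k, -⟩ : ∃ k : ℕ, True := ⟨0, trivial⟩
    by_contra hnp
    obtain ⟨r, hr, hrd, hr2⟩ : ∃ r, r.Prime ∧ r ∣ Nat.card C1 ∧ r ≠ 2 := by
      by_contra! hall
      refine hnp (IsPGroup.of_card (n := (Nat.card C1).factorization 2) ?_)
      conv_lhs => rw [Nat.eq_prime_pow_of_unique_prime_dvd Nat.card_pos.ne'
        (fun {d} hd hdd => hall d hd hdd)]
      congr 1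
      have e := Nat.eq_prime_pow_of_unique_prime_dvd (p := 2) Nat.card_pos.ne'
        (fun {d} hd hdd => hall d hd hdd)
      conv_rhs => rw [e, Nat.factorization_pow, Finsupp.smul_apply,
        Nat.prime_two.factorization_self, smul_eq_mul, mul_one]
    have := Fact.mk hr
    obtain ⟨⟨y, hyV, hyQ⟩, hy⟩ := exists_prime_orderOf_dvd_card' r hrd
    replace hy : orderOf y = r := by rw [← hy, ← Subgroup.orderOf_coe]
    set Y := Subgroup.zpowers y
    have hYo : Nat.card Y = r := (Nat.card_zpowers y).trans hy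
    have hcop : ∀ W : Subgroup G, IsPGroup 2 W → (Nat.card Y).Coprime (Nat.card W) := fun W hW => by
      obtain ⟨i, hi⟩ := IsPGroup.iff_card.1 hW
      rw [hYo, hi]
      exact ((Nat.coprime_primes hr Nat.prime_two).2 hr2).pow_right i
    have hZQ : Z ≤ Q := inf_le_left
    have : IsMulCommutative Z := ⟨⟨fun a b => Subtype.ext (b.2.2 a.1 a.2.1)⟩⟩
    have hYZ : Y ≤ Subgroup.centralizer (Z : Set G) := by
      refine abelian_trivial_of_prime_order (Subgroup.normalizer_eq_top (H := Z) ▸ le_top)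
        (hcop Z (hQ.to_le hZQ)) fun z hz hzp a ha => ?_
      obtain ⟨i, hi⟩ := IsPGroup.iff_orderOf.1 hQ ⟨z, hz.1⟩
      rw [Subgroup.orderOf_mk] at hi
      have h2 : orderOf z = 2 :=
        (Nat.prime_dvd_prime_iff_eq hzp Nat.prime_two).1 (hzp.dvd_of_dvd_pow hi.dvd)
      have hzV : z ∈ V := ⟨hz, by rw [← sq, ← h2]; exact pow_orderOf_eq_one z⟩
      have : Y ≤ Subgroup.centralizer {z} := Subgroup.zpowers_le.2
        (Subgroup.mem_centralizer_singleton_iff.2 (hyV z hzV).symm)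
      exact Subgroup.mem_centralizer_singleton_iff.1 (this ha)
    have hQY : ⁅Q, Y⁆ ≤ Z := by
      rw [Subgroup.commutator_comm, Subgroup.commutator_le]
      intro a ha q hq
      have : Y ≤ C1 := Subgroup.zpowers_le.2 ⟨hyV, hyQ⟩
      exact (this ha).2 q hq
    have hsol : Group.IsSolvable Q := have := hQ.isNilpotent; inferInstance
    have h4 := commutator_commutator_eq (hnQ Y) (hcop Q hQ) (Or.inr hsol)
    rw [Subgroup.commutator_eq_bot_iff_le_centralizer.2
      (hQY.trans (Subgroup.le_centralizer_iff.1 hYZ))] at h4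
    have hyQ' : y ∈ Q := hCQ (Subgroup.commutator_eq_bot_iff_le_centralizer.1
      (by rw [Subgroup.commutator_comm, ← h4]) (Subgroup.mem_zpowers y))
    obtain ⟨i, hi⟩ := IsPGroup.iff_orderOf.1 hQ ⟨y, hyQ'⟩
    rw [Subgroup.orderOf_mk, hy] at hi
    exact hr2 ((Nat.prime_dvd_prime_iff_eq hr Nat.prime_two).1 (hr.dvd_of_dvd_pow hi.dvd))
  have hVp : IsPGroup 2 V := hQ.to_le hVQ
  -- quadratic action
  have hquad : ∀ B : Subgroup G, IsPGroup 2 B → ∀ x ∈ B, ∀ v ∈ V,
      x * v * x⁻¹ * v⁻¹ ∈ V ⊓ Subgroup.centralizer (B : Set G) := by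
    intro B hB x hx v hv
    refine ⟨V.mul_mem (hVconj x v hv) (V.inv_mem hv), ?_⟩
    have h1 := (hcomm (Q ⊔ B) (hsupQ B hB)).2 (Subgroup.commutator_mem_commutator
      (Subgroup.mem_sup_right hx) (Subgroup.mem_sup_left (hVQ hv)))
    exact Subgroup.centralizer_le (SetLike.coe_subset_coe.2 le_sup_right) h1
  -- the offender inequality
  have hoff : ∀ B : Subgroup G, Cfsg.IsElementaryAbelian 2 B → Nat.card B = Nat.card A →
      Nat.card V * Nat.card (Q ⊓ B : Subgroup G) ≤
        Nat.card B * Nat.card (V ⊓ Subgroup.centralizer (B : Set G) : Subgroup G) := by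
    intro B hB hBc
    have := hB.1
    set kB := Q ⊓ B
    have hVk : kB ≤ Subgroup.centralizer (V : Set G) :=
      fun x hx => Subgroup.le_centralizer_iff.1 hVC hx.1
    have hnk : kB ≤ Subgroup.normalizer (V : Set G) :=
      hVk.trans (Subgroup.centralizer_le_normalizer _)
    have hel : Cfsg.IsElementaryAbelian 2 (V ⊔ kB : Subgroup G) := by
      have hm : ∀ z ∈ V ⊔ kB, ∃ v ∈ V, ∃ k ∈ kB, v * k = z := fun z hz => (mem_sup_iff hnk).1 hz
      refine ⟨⟨⟨?_⟩⟩, ?_⟩
      · rintro ⟨a, ha⟩ ⟨b, hb⟩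
        obtain ⟨v, hv, k, hk, rfl⟩ := hm a ha
        obtain ⟨v', hv', k', hk', rfl⟩ := hm b hb
        refine Subtype.ext (?_ : v * k * (v' * k') = v' * k' * (v * k))
        have c1 : v' * k = k * v' := hVk hk v' hv'
        have c2 : v * k' = k' * v := hVk hk' v hv
        rw [mul_assoc, ← mul_assoc k, ← c1, mul_assoc v', setLike_mul_comm hk.2 hk'.2,
          ← mul_assoc v, setLike_mul_comm hv hv', mul_assoc, ← mul_assoc v, c2, mul_assoc,
          ← mul_assoc v']
      · intro z hz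
        obtain ⟨v, hv, k, hk, rfl⟩ := hm z hz
        rw [Commute.mul_pow (hVk hk v hv), hVel.2 v hv, hB.2 k hk.2, one_mul]
    have h1 := PLocal.card_sup_mul_card_inf hnk
    have h3 : Nat.card (V ⊓ kB : Subgroup G) ≤
        Nat.card (V ⊓ Subgroup.centralizer (B : Set G) : Subgroup G) :=
      Subgroup.card_le_of_le fun x hx => ⟨hx.1, fun b hb => setLike_mul_comm hb hx.2.2⟩
    rw [← h1]
    exact Nat.mul_le_mul ((hmax _ hel).trans_eq hBc.symm) h3
  -- two conjugates of `A` generating `G` modulo `Q`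
  obtain ⟨g, hg⟩ : ∃ g : G, ¬ ⁅A, MulAut.conj g • A⁆ ≤ Q := by
    by_contra! hall
    set π := QuotientGroup.mk' Q
    have hnc := fun (x y : G ⧸ Q) (hx : x ∈ Group.conjugatesOfSet (π '' (A : Set G)))
        (hy : y ∈ Group.conjugatesOfSet (π '' (A : Set G))) => (show x * y = y * x ∧ x * x = 1 from by
      rw [Group.mem_conjugatesOfSet_iff] at hx hy
      obtain ⟨_, ⟨a, ha, rfl⟩, hx⟩ := hx
      obtain ⟨_, ⟨a', ha', rfl⟩, hy⟩ := hy
      obtain ⟨x1, rfl⟩ := isConj_iff.1 hx
      obtain ⟨y1, rfl⟩ := isConj_iff.1 hy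
      obtain ⟨g1, rfl⟩ := QuotientGroup.mk'_surjective Q x1
      obtain ⟨g2, rfl⟩ := QuotientGroup.mk'_surjective Q y1
      constructor
      · rw [← commutatorElement_eq_one_iff_mul_comm]
        simp only [← map_inv, ← map_mul, ← map_commutatorElement]
        refine (QuotientGroup.eq_one_iff _).2 ?_
        have h1 : ⁅a, g1⁻¹ * g2 * a' * (g1⁻¹ * g2)⁻¹⁆ ∈ Q :=
          hall (g1⁻¹ * g2) (Subgroup.commutator_mem_commutator ha (conj_mem_conj.2 ha'))
        have h2 := (Cores.pCore_normal 2 G).conj_mem _ h1 g1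
        rw [conjugate_commutatorElement] at h2
        convert h2 using 2
        group
      · rw [show π g1 * π a * (π g1)⁻¹ * (π g1 * π a * (π g1)⁻¹) = π g1 * (π a * π a) * (π g1)⁻¹ by
          group, ← map_mul π a a, ← sq, hA.2 a ha, map_one]
        simp)
    set N := Subgroup.normalClosure (π '' (A : Set G))
    have hNc : IsMulCommutative N := by
      have hcl : ∀ x ∈ Group.conjugatesOfSet (π '' (A : Set G)),
          ∀ y ∈ Group.conjugatesOfSet (π '' (A : Set G)), x * y = y * x :=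
        fun x hx y hy => (hnc x y hx hy).1
      exact Subgroup.isMulCommutative_closure hcl
    have hN2 : ∀ x ∈ N, x * x = 1 := by
      intro x hx
      induction hx using Subgroup.closure_induction with
      | mem x hx => exact (hnc x x hx hx).2
      | one => exact one_mul 1
      | mul x y hx hy ihx ihy =>
        have hxN : x ∈ N := hx
        have hyN : y ∈ N := hy
        rw [mul_assoc, ← mul_assoc y, setLike_mul_comm hyN hxN, mul_assoc x y, ihy, mul_one, ihx]
      | inv x hx ihx => rw [← mul_inv_rev, ihx, inv_one]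
    have hNp : IsPGroup 2 N := fun x => ⟨1, Subtype.ext (by
      show (x : G ⧸ Q) ^ 2 ^ 1 = 1
      rw [pow_one, sq]; exact hN2 x x.2)⟩
    have hpre : IsPGroup 2 (N.comap π) :=
      hNp.comap_of_ker_isPGroup π (by rw [QuotientGroup.ker_mk']; exact hQ)
    exact hAQ fun a ha =>
      Cores.le_pCore inferInstance hpre (Subgroup.subset_normalClosure ⟨a, ha, rfl⟩)
  set A' := MulAut.conj g • A with hA'def
  have hA' : Cfsg.IsElementaryAbelian 2 A' := isElementaryAbelian_map hA _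
  have hA'c : Nat.card A' = Nat.card A := card_conj g A
  have htop : Q ⊔ A ⊔ A' = ⊤ := by
    by_contra hne
    set H := Q ⊔ A ⊔ A'
    have hQH : Q ≤ H := le_sup_left.trans le_sup_left
    have h1 := hproper H hne hQH A (le_sup_right.trans le_sup_left) hA rfl
    have h2 := hproper H hne hQH A' le_sup_right hA' hA'c
    exact hg ((Subgroup.commutator_mono h1 h2).trans
      ((hcomm _ ((Cores.isPGroup_pCore 2 H).map _)).1.trans inf_le_left))
  set U0 := V ⊓ Subgroup.centralizer (A : Set G) with hU0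
  set U1 := V ⊓ Subgroup.centralizer (A' : Set G) with hU1
  set V0 := U0 ⊓ U1 with hV0def
  have hV0 : V0 ≤ Subgroup.center G := fun z hz => by
    rw [Subgroup.mem_center_iff]
    intro x
    have : Q ⊔ A ⊔ A' ≤ Subgroup.centralizer {z} := sup_le (sup_le
      (fun q hq => Subgroup.mem_centralizer_singleton_iff.2 (hVC hz.1.1 q hq))
      (fun a ha => Subgroup.mem_centralizer_singleton_iff.2 (hz.1.2 a ha)))
      (fun a ha => Subgroup.mem_centralizer_singleton_iff.2 (hz.2.2 a ha))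
    exact Subgroup.mem_centralizer_singleton_iff.1 (this (htop ▸ Subgroup.mem_top x))
  have hV0V : V0 ≤ V := inf_le_left.trans inf_le_left
  -- the key statement, symmetric in `A` and `A'`
  have side : ∀ B B' : Subgroup G, Cfsg.IsElementaryAbelian 2 B → Cfsg.IsElementaryAbelian 2 B' →
      Nat.card B = Nat.card A → Nat.card B' = Nat.card A → Q ⊔ B ⊔ B' = ⊤ → ¬ B ≤ Q →
      Nat.card (Q ⊓ B : Subgroup G) = Nat.card (Q ⊓ B' : Subgroup G) →
      V ⊓ Subgroup.centralizer (B : Set G) ⊓ (V ⊓ Subgroup.centralizer (B' : Set G)) = V0 →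
      ∀ w ∈ V ⊓ Subgroup.centralizer (B : Set G), w ∉ V0 →
      (∀ c ∈ B', c * w * c⁻¹ * w⁻¹ ∈ V0 → c ∈ Q) ∧
      (∀ u ∈ V ⊓ Subgroup.centralizer (B' : Set G), ∃ c ∈ B', ∃ v ∈ V0,
        c * w * c⁻¹ = u * v * w) := by
    intro B B' hB hB' hBc hB'c htop' hBQ hk hinter w hw hw0
    have hwQ : ∀ q ∈ Q, q * w * q⁻¹ * w⁻¹ = 1 := fun q hq => by
      rw [hVC hw.1 q hq, mul_inv_cancel_right, mul_inv_cancel]
    have hwB : ∀ b ∈ B, b * w * b⁻¹ * w⁻¹ = 1 := fun b hb => by
      rw [hw.2 b hb, mul_inv_cancel_right, mul_inv_cancel]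
    have hinj : ∀ c ∈ B', c * w * c⁻¹ * w⁻¹ ∈ V0 → c ∈ Q := by
      intro c hc hcw
      set Y := relCenter V0 {w} hV0
      have hY : ∀ x, x ∈ Y ↔ x * w * x⁻¹ * w⁻¹ ∈ V0 := fun x =>
        ⟨fun h => h w rfl, fun h s hs => by rw [Set.mem_singleton_iff.1 hs]; exact h⟩
      have hQY : Q ≤ Y := fun q hq => (hY q).2 (by rw [hwQ q hq]; exact V0.one_mem)
      have hBY : B ≤ Y := fun b hb => (hY b).2 (by rw [hwB b hb]; exact V0.one_mem)
      have hcY : c ∈ Y := (hY c).2 hcw
      by_cases hYt : Y = ⊤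
      · exfalso
        set Y0 := Subgroup.centralizer ({w} : Set G) with hY0
        have hY0n : Y0.Normal := ⟨fun z hz x => by
          have hx : x⁻¹ * w * x⁻¹⁻¹ * w⁻¹ ∈ V0 := (hY x⁻¹).1 (hYt ▸ Subgroup.mem_top _)
          rw [Subgroup.mem_centralizer_singleton_iff] at hz ⊢
          have h1 : x⁻¹ * w * x = x⁻¹ * w * x⁻¹⁻¹ * w⁻¹ * w := by group
          calc x * z * x⁻¹ * w = x * (z * (x⁻¹ * w * x)) * x⁻¹ := by group
            _ = x * ((x⁻¹ * w * x) * z) * x⁻¹ := by
                refine congrArg (fun t => x * t * x⁻¹) ?_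
                rw [h1, ← mul_assoc z, Subgroup.mem_center_iff.1 (hV0 hx) z, mul_assoc _ z w, hz,
                  ← mul_assoc]
            _ = _ := by group⟩
        have hY0ne : Y0 ≠ ⊤ := fun h => hw0 (hinter ▸ ⟨hw, hw.1, fun b hb =>
          Subgroup.mem_centralizer_singleton_iff.1 (h ▸ Subgroup.mem_top b : b ∈ Y0)⟩)
        have h1 := hproper Y0 hY0ne
          (fun q hq => Subgroup.mem_centralizer_singleton_iff.2 (hVC hw.1 q hq)) B
          (fun b hb => Subgroup.mem_centralizer_singleton_iff.2 (hw.2 b hb)) hB hBc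
        have h2 : ((Cfsg.pCore 2 Y0).map Y0.subtype).Normal := by
          rw [← Subgroup.normalizer_eq_top_iff, eq_top_iff]
          exact (Subgroup.normalizer_eq_top (H := Y0)).ge.trans
            (Cores.normalizer_le_normalizer_map _)
        exact hBQ (h1.trans (Cores.le_pCore h2 ((Cores.isPGroup_pCore 2 Y0).map _)))
      · have h1 := hproper Y hYt hQY B hBY hB hBc
        set O := (Cfsg.pCore 2 Y).map Y.subtype
        have hcZ : IsPGroup 2 (Subgroup.zpowers c) :=
          (hAp B' hB').to_le (Subgroup.zpowers_le.2 hc)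
        have hOp : IsPGroup 2 O := (Cores.isPGroup_pCore 2 Y).map _
        have hcO : Subgroup.zpowers c ≤ Subgroup.normalizer (O : Set G) :=
          (Subgroup.zpowers_le.2 hcY).trans
            (Subgroup.le_normalizer.trans (Cores.normalizer_le_normalizer_map _))
        have hT := (hcomm _ (hOp.to_sup_of_normal_left' hcZ hcO)).1
        set M := Q ⊔ Subgroup.zpowers c
        have hMn : M.Normal := by
          rw [← Subgroup.normalizer_eq_top_iff, eq_top_iff, ← htop']
          refine sup_le (sup_le (le_sup_left.trans Subgroup.le_normalizer) ?_) ?_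
          · intro b hb
            refine mem_normalizer_of_forall fun x hx => ?_
            have h2 : M ≤ M.comap (MulAut.conj b).toMonoidHom := sup_le
              (fun q hq => Subgroup.mem_sup_left ((Cores.pCore_normal 2 G).conj_mem q hq b))
              (Subgroup.zpowers_le.2 (by
                show b * c * b⁻¹ ∈ M
                rw [show b * c * b⁻¹ = ⁅b, c⁆ * c by rw [commutatorElement_def]; group]
                exact M.mul_mem (Subgroup.mem_sup_left (hT (Subgroup.commutator_mem_commutator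
                    (Subgroup.mem_sup_left (h1 hb)) (Subgroup.mem_sup_right (Subgroup.mem_zpowers c)))).1)
                  (Subgroup.mem_sup_right (Subgroup.mem_zpowers c))))
            exact h2 hx
          · intro b hb
            refine mem_normalizer_of_forall fun x hx => ?_
            have := hB'.1
            have h2 : M ≤ M.comap (MulAut.conj b).toMonoidHom := sup_le
              (fun q hq => Subgroup.mem_sup_left ((Cores.pCore_normal 2 G).conj_mem q hq b))
              (Subgroup.zpowers_le.2 (by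
                show b * c * b⁻¹ ∈ M
                rw [setLike_mul_comm hb hc, mul_inv_cancel_right]
                exact Subgroup.mem_sup_right (Subgroup.mem_zpowers c)))
            exact h2 hx
        exact Cores.le_pCore hMn (hsupQ _ hcZ) (Subgroup.mem_sup_right (Subgroup.mem_zpowers c))
    refine ⟨hinj, ?_⟩
    -- surjectivity by counting
    set U' := V ⊓ Subgroup.centralizer (B' : Set G) with hU'
    have hfU : ∀ c ∈ B', c * w * c⁻¹ * w⁻¹ ∈ U' := fun c hc => hquad B' (hAp B' hB') c hc w hw.1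
    let f : B' →* G :=
      { toFun := fun c => (c : G) * w * (c : G)⁻¹ * w⁻¹
        map_one' := by simp
        map_mul' := fun c d => by
          have hd : (c : G) * ((d : G) * w * (d : G)⁻¹ * w⁻¹) =
              ((d : G) * w * (d : G)⁻¹ * w⁻¹) * c := (hfU d d.2).2 c c.2
          have hV' : ((d : G) * w * (d : G)⁻¹ * w⁻¹) * ((c : G) * w * (c : G)⁻¹ * w⁻¹) =
              ((c : G) * w * (c : G)⁻¹ * w⁻¹) * ((d : G) * w * (d : G)⁻¹ * w⁻¹) :=
            setLike_mul_comm (hfU d d.2).1 (hfU c c.2).1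
          rw [← hV', Subgroup.coe_mul,
            show (c : G) * d * w * ((c : G) * d)⁻¹ * w⁻¹ =
              ((c : G) * ((d : G) * w * (d : G)⁻¹ * w⁻¹)) * w * (c : G)⁻¹ * w⁻¹ by group, hd]
          group }
    have hker : f.ker = (Q ⊓ B').subgroupOf B' := by
      ext c
      rw [MonoidHom.mem_ker, Subgroup.mem_subgroupOf]
      exact ⟨fun h => ⟨hinj c c.2 (by rw [show (c : G) * w * (c : G)⁻¹ * w⁻¹ = 1 from h]; exact V0.one_mem), c.2⟩,
        fun h => hwQ c h.1⟩
    have hRU : f.range ≤ U' := by rintro _ ⟨c, rfl⟩; exact hfU c c.2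
    have hcardR : Nat.card f.range * Nat.card (Q ⊓ B' : Subgroup G) = Nat.card B' := by
      rw [← Subgroup.index_ker, hker, ← Nat.card_congr
        (Subgroup.subgroupOfEquivOfLe (inf_le_right : Q ⊓ B' ≤ B')).toEquiv, Subgroup.index_mul_card]
    have hRV0 : f.range ⊓ V0 = ⊥ := by
      rw [eq_bot_iff]
      rintro x ⟨⟨c, rfl⟩, hc⟩
      have : c ∈ f.ker := hker ▸ (show (c : G) ∈ Q ⊓ B' from ⟨hinj c c.2 hc, c.2⟩)
      exact Subgroup.mem_bot.2 this
    have hV0U : V0 ≤ U' := hinter ▸ inf_le_right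
    have hn1 : V0 ≤ Subgroup.normalizer (f.range : Set G) := fun z hz =>
      mem_normalizer_of_forall fun x hx => by
        rwa [← Subgroup.mem_center_iff.1 (hV0 hz) x, mul_inv_cancel_right]
    have h1 := PLocal.card_sup_mul_card_inf hn1
    rw [hRV0, Subgroup.card_bot, mul_one] at h1
    have hU : Nat.card U' * Nat.card (Q ⊓ B : Subgroup G) ≤ Nat.card B * Nat.card V0 := by
      have hn2 : U' ≤ Subgroup.normalizer
          ((V ⊓ Subgroup.centralizer (B : Set G) : Subgroup G) : Set G) :=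
        fun x hx => mem_normalizer_of_forall fun z hz => by
          rwa [setLike_mul_comm hx.1 hz.1, mul_inv_cancel_right]
      have h2 := PLocal.card_sup_mul_card_inf hn2
      rw [hinter] at h2
      have h3 : Nat.card ((V ⊓ Subgroup.centralizer (B : Set G)) ⊔ U' : Subgroup G) ≤ Nat.card V :=
        Subgroup.card_le_of_le (sup_le inf_le_left inf_le_left)
      have h4 := hoff B hB hBc
      have hpos : 0 < Nat.card (V ⊓ Subgroup.centralizer (B : Set G) : Subgroup G) := Nat.card_pos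
      refine Nat.le_of_mul_le_mul_left ?_ hpos
      calc Nat.card (V ⊓ Subgroup.centralizer (B : Set G) : Subgroup G) *
            (Nat.card U' * Nat.card (Q ⊓ B : Subgroup G))
          = Nat.card ((V ⊓ Subgroup.centralizer (B : Set G)) ⊔ U' : Subgroup G) * Nat.card V0 *
              Nat.card (Q ⊓ B : Subgroup G) := by rw [h2, mul_assoc]
        _ ≤ Nat.card V * Nat.card V0 * Nat.card (Q ⊓ B : Subgroup G) :=
              Nat.mul_le_mul_right _ (Nat.mul_le_mul_right _ h3)
        _ = Nat.card V * Nat.card (Q ⊓ B : Subgroup G) * Nat.card V0 := by ring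
        _ ≤ Nat.card B * Nat.card (V ⊓ Subgroup.centralizer (B : Set G) : Subgroup G) *
              Nat.card V0 := Nat.mul_le_mul_right _ h4
        _ = _ := by ring
    have hfull : f.range ⊔ V0 = U' := by
      refine Subgroup.eq_of_le_of_card_ge (sup_le hRU hV0U) (Nat.le_of_mul_le_mul_right ?_
        (Nat.card_pos (α := (Q ⊓ B' : Subgroup G))))
      calc Nat.card U' * Nat.card (Q ⊓ B' : Subgroup G)
          = Nat.card U' * Nat.card (Q ⊓ B : Subgroup G) := by rw [hk]
        _ ≤ Nat.card B * Nat.card V0 := hU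
        _ = Nat.card f.range * Nat.card (Q ⊓ B' : Subgroup G) * Nat.card V0 := by
              rw [hcardR, hBc, hB'c]
        _ = Nat.card (f.range ⊔ V0 : Subgroup G) * Nat.card (Q ⊓ B' : Subgroup G) := by
              rw [h1]; ring
    intro u hu
    obtain ⟨_, ⟨c, rfl⟩, z, hz, rfl⟩ := (mem_sup_iff hn1).1 (hfull ▸ hu : u ∈ f.range ⊔ V0)
    refine ⟨c, c.2, z⁻¹, V0.inv_mem hz, ?_⟩
    show (c : G) * w * (c : G)⁻¹ = (c : G) * w * (c : G)⁻¹ * w⁻¹ * z * z⁻¹ * w
    group
  -- `U0` is not central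
  have hcardk : Nat.card (Q ⊓ A : Subgroup G) = Nat.card (Q ⊓ A' : Subgroup G) := by
    rw [← card_conj g (Q ⊓ A), hA'def, Subgroup.smul_inf,
      conj_eq_of_mem_normalizer (hQn ▸ Subgroup.mem_top g)]
  have hcardU : Nat.card U0 = Nat.card U1 := by
    rw [← card_conj g U0]
    congr
    ext x
    rw [mem_conj]
    constructor
    · rintro ⟨hxV, hxC⟩
      refine ⟨by simpa [mul_assoc] using hVconj g _ hxV, fun a ha => ?_⟩
      rw [hA'def, SetLike.mem_coe, mem_conj] at ha
      have := hxC _ ha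
      calc a * x = g * ((g⁻¹ * a * g) * (g⁻¹ * x * g)) * g⁻¹ := by group
        _ = g * ((g⁻¹ * x * g) * (g⁻¹ * a * g)) * g⁻¹ := by rw [this]
        _ = _ := by group
    · rintro ⟨hxV, hxC⟩
      refine ⟨by simpa using hVconj g⁻¹ x hxV, fun a ha => ?_⟩
      have := hxC (g * a * g⁻¹) (conj_mem_conj.2 ha)
      calc a * (g⁻¹ * x * g) = g⁻¹ * ((g * a * g⁻¹) * x) * g := by group
        _ = g⁻¹ * (x * (g * a * g⁻¹)) * g := by rw [this]
        _ = _ := by group
  obtain ⟨w, hwU, hw0⟩ : ∃ w ∈ U0, w ∉ V0 := by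
    by_contra! hall
    have h01 : U0 ≤ U1 := fun x hx => (hall x hx).2
    have heq : U0 = U1 := Subgroup.eq_of_le_of_card_ge h01 hcardU.ge
    have hVeq : V0 = U0 := by rw [hV0def, ← heq, inf_idem]
    set Y := relCenter V0 (V : Set G) hV0
    have hY : Y = ⊤ := by
      rw [eq_top_iff, ← htop]
      refine sup_le (sup_le (fun q hq v hv => ?_) (fun a ha v hv => ?_)) (fun a ha v hv => ?_)
      · rw [hVC hv q hq, mul_inv_cancel_right, mul_inv_cancel]; exact V0.one_mem
      · rw [hVeq]; exact hquad A (hAp A hA) a ha v hv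
      · rw [hVeq, heq]; exact hquad A' (hAp A' hA') a ha v hv
    have h1 : ⁅⁅(⊤ : Subgroup G), (⊤ : Subgroup G)⁆, V⁆ = ⊥ := by
      have hb : ⁅⁅(⊤ : Subgroup G), V⁆, (⊤ : Subgroup G)⁆ = ⊥ := by
        rw [Subgroup.commutator_top_right_eq_bot_iff_le_center]
        refine le_trans ?_ hV0
        rw [Subgroup.commutator_le]
        intro x hx v hv
        exact (hY ▸ Subgroup.mem_top x : x ∈ Y) v hv
      refine Subgroup.commutator_commutator_eq_bot_of_rotate hb ?_
      rw [Subgroup.commutator_comm V]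
      exact hb
    refine hg ?_
    rw [Subgroup.commutator_le]
    intro a ha a' ha'
    refine hC1 _ (Subgroup.commutator_eq_bot_iff_le_centralizer.1 h1
      (Subgroup.commutator_mem_commutator (Subgroup.mem_top a) (Subgroup.mem_top a'))) fun q hq => ?_
    -- `2`-elements act trivially on `Q / Z(Q)`
    have hG0 : ∀ B : Subgroup G, IsPGroup 2 B → ∀ x ∈ B, ∀ q ∈ Q, x * q * x⁻¹ * q⁻¹ ∈ Z :=
      fun B hB x hx q hq => (hcomm (Q ⊔ B) (hsupQ B hB)).1 (Subgroup.commutator_mem_commutator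
        (Subgroup.mem_sup_right hx) (Subgroup.mem_sup_left hq))
    have hZn : ∀ z ∈ Z, ∀ x : G, x * z * x⁻¹ ∈ Z := fun z hz x => by
      refine ⟨(Cores.pCore_normal 2 G).conj_mem z hz.1 x, ?_⟩
      exact (Subgroup.normal_centralizer (H := Q)).conj_mem z hz.2 x
    let G0 : Subgroup G :=
      { carrier := {y | ∀ q ∈ Q, y * q * y⁻¹ * q⁻¹ ∈ Z}
        one_mem' := fun q _ => by simp [Z.one_mem]
        mul_mem' := fun {x y} hx hy q hq => by
          rw [show x * y * q * (x * y)⁻¹ * q⁻¹ =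
            x * (y * q * y⁻¹ * q⁻¹) * x⁻¹ * (x * q * x⁻¹ * q⁻¹) by group]
          exact Z.mul_mem (hZn _ (hy q hq) x) (hx q hq)
        inv_mem' := fun {x} hx q hq => by
          rw [show x⁻¹ * q * x⁻¹⁻¹ * q⁻¹ = x⁻¹ * (x * q * x⁻¹ * q⁻¹)⁻¹ * x⁻¹⁻¹ by group]
          exact hZn _ (Z.inv_mem (hx q hq)) _ }
    have haG : a ∈ G0 := hG0 A (hAp A hA) a ha
    have ha'G : a' ∈ G0 := hG0 A' (hAp A' hA') a' ha'
    exact (G0.mul_mem (G0.mul_mem (G0.mul_mem haG ha'G) (G0.inv_mem haG)) (G0.inv_mem ha'G)) q hq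
  -- the two transvections
  have hA'Q : ¬ A' ≤ Q := fun h => hAQ fun a ha => by
    have := (Cores.pCore_normal 2 G).conj_mem _ (h (conj_mem_conj.2 ha)) g⁻¹
    simpa [mul_assoc] using this
  have hinter' : U1 ⊓ U0 = V0 := by rw [hV0def, inf_comm]
  have s1 := side A A' hA hA' rfl hA'c htop hAQ hcardk hV0def.symm w hwU hw0
  obtain ⟨c, hc, hcQ⟩ := SetLike.not_le_iff_exists.1 hA'Q
  set u := c * w * c⁻¹ * w⁻¹ with hu
  have huU : u ∈ U1 := hquad A' (hAp A' hA') c hc w hwU.1
  have hu0 : u ∉ V0 := fun h => hcQ (s1.1 c hc h)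
  have s2 := side A' A hA' hA hA'c rfl (by rw [← htop, sup_assoc, sup_comm A', ← sup_assoc]) hA'Q
    hcardk.symm hinter' u huU hu0
  obtain ⟨b, hb, v, hv, hbu⟩ := s2.2 w hwU
  have hsq : ∀ {B : Subgroup G}, Cfsg.IsElementaryAbelian 2 B → ∀ x ∈ B, x * x = 1 :=
    fun hB x hx => by rw [← sq]; exact hB.2 x hx
  refine hS4 (involves_s4_of_transvections V V0 hV0 hV0V (fun x hx => hx.2) (u := u) (w := w)
    (b := b) (c := c) (v := v) (v' := 1) huU.1 hwU.1 hv V0.one_mem hu0 hw0 ?_ (hsq hA b hb)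
    (hsq hA' c hc) ?_ ?_ hbu ?_)
  · intro h
    refine hu0 (hV0def ▸ ⟨?_, huU⟩)
    have h1 : u * w * w⁻¹ ∈ U0 := U0.mul_mem (inf_le_left (a := U0) (hV0def ▸ h)) (U0.inv_mem hwU)
    simpa using h1
  · rw [mul_inv_eq_iff_eq_mul]; exact hwU.2 b hb
  · rw [mul_inv_eq_iff_eq_mul]; exact huU.2 c hc
  · rw [hu]; group

/-- `J_e(S)` is normal in an `S₄`-free group of characteristic 2 with Sylow subgroups of class 2. -/
theorem thompson_normal_of_classTwo {G : Type u} [Group G] [Finite G]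
    (hS4 : ¬ Cfsg.Involves (Equiv.Perm (Fin 4)) G)
    (hCQ : Subgroup.centralizer (Cfsg.pCore 2 G : Set G) ≤ Cfsg.pCore 2 G)
    (hcl : ∀ T : Subgroup G, IsPGroup 2 T → ⁅⁅T, T⁆, T⁆ = ⊥) (S : Sylow 2 G) :
    Subgroup.normalizer ((Cfsg.thompsonSubgroupOf 2 (S : Subgroup G)) : Set G) = ⊤ := by
  set Q := Cfsg.pCore 2 G
  have hQS : Q ≤ S := Cores.pCore_le_sylow S
  -- a maximal one of `S` is maximal in `G`
  have hmaxS : ∀ A ∈ PLocal.maxIn (PLocal.elemAb 2) (S : Subgroup G),
      ∀ B : Subgroup G, Cfsg.IsElementaryAbelian 2 B → Nat.card B ≤ Nat.card A := by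
    intro A hA B hB
    have hBp : IsPGroup 2 B := fun b => ⟨1, Subtype.ext (by simpa using hB.2 b b.2)⟩
    obtain ⟨T, hT⟩ := hBp.exists_le_sylow
    obtain ⟨x, rfl⟩ := MulAction.exists_smul_eq G S T
    have h1 : MulAut.conj x⁻¹ • B ≤ (S : Subgroup G) := fun y hy => by
      rw [mem_conj, inv_inv] at hy
      have := hT hy
      rw [Sylow.coe_subgroup_smul] at this
      rwa [conj_mem_conj] at this
    exact card_conj x⁻¹ B ▸ hA.2.2 _ h1 (isElementaryAbelian_map hB _)
  have hle : ∀ A ∈ PLocal.maxIn (PLocal.elemAb 2) (S : Subgroup G), A ≤ Q := fun A hA =>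
    le_pCore_of_classTwo hS4 hCQ hcl hA.2.1 (hmaxS A hA)
  have heq : Cfsg.thompsonSubgroupOf 2 (S : Subgroup G) = Cfsg.thompsonSubgroupOf 2 Q := by
    rw [PLocal.thompsonSubgroupOf_eq, PLocal.thompsonSubgroupOf_eq]
    obtain ⟨A0, hA0⟩ := PLocal.exists_maxIn
      (Q := PLocal.elemAb (G := G) 2) ⟨inferInstance, fun a ha => by
        rw [Subgroup.mem_bot.1 ha, one_pow]⟩ (S : Subgroup G)
    congr 1
    refine Set.Subset.antisymm (fun A hA => ?_) (PLocal.maxIn_subset hA0 (hle A0 hA0) hQS)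
    exact ⟨hle A hA, hA.2.1, fun B hBQ hB => hA.2.2 B (hBQ.trans hQS) hB⟩
  rw [heq, eq_top_iff]
  exact (Subgroup.normalizer_eq_top (H := Q)).ge.trans
    (PLocal.normalizer_le_normalizer_thompsonSubgroupOf Q)

end Cfsg.Agent.Coprime
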