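import Cfsg.Agent.Lib.Coprime.PQ

/-!
# Coprime action whose fixed-point subgroup has prime index

* `sylow_pow_relIndex`, `exists_mul_eq_of_relIndex_eq`, `card_commutator_of_relIndex_eq_prime`
-/

set_option autoImplicit false

namespace Cfsg.Agent.Coprime

open scoped Pointwise commutatorElement

variable {G : Type*} [Group G] [Finite G]

/-- If `[P : P ∩ C] = [K : C]` then `K = P C`. -/
theorem exists_mul_eq_of_relIndex_eq {P C K : Subgroup G} (hP : P ≤ K) (hC : C ≤ K)
    (h : C.relIndex P = C.relIndex K) {k : G} (hk : k ∈ K) :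
    ∃ x ∈ P, ∃ c ∈ C, x * c = k := by
  set P' := P.subgroupOf K
  set x0 : K ⧸ C.subgroupOf K := ((1 : K) : K ⧸ C.subgroupOf K) with hx0
  have h1 : (MulAction.stabilizer P' x0).index = (C.subgroupOf K).index := by
    have e : MulAction.stabilizer P' x0 = (C.subgroupOf K).subgroupOf P' := by
      ext x
      rw [MulAction.mem_stabilizer_iff, Subgroup.mem_subgroupOf, hx0]
      show (((x : K) * 1 : K) : K ⧸ C.subgroupOf K) = _ ↔ _
      rw [mul_one, QuotientGroup.eq, mul_one, inv_mem_iff]
    rw [e]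
    show (C.subgroupOf K).relIndex P' = _
    rw [Subgroup.relIndex_subgroupOf hP, h]
    rfl
  rw [MulAction.index_stabilizer, Subgroup.index_eq_card, ← Set.ncard_univ] at h1
  have h2 := Set.eq_of_subset_of_ncard_le (Set.subset_univ _) h1.ge
  obtain ⟨x, hx⟩ := (h2.symm ▸ Set.mem_univ _ :
    ((⟨k, hk⟩ : K) : K ⧸ C.subgroupOf K) ∈ MulAction.orbit P' x0)
  have hx' : (((x : K) * 1 : K) : K ⧸ C.subgroupOf K) = ((⟨k, hk⟩ : K) : K ⧸ C.subgroupOf K) := hx
  rw [mul_one, QuotientGroup.eq] at hx'
  exact ⟨((x : K) : G), x.2, _, hx', by simp⟩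

variable {A K : Subgroup G}

/-- If `C_K(A)` has prime index `p` in `K` then `[K, A]` has order `p`. -/
theorem card_commutator_of_relIndex_eq_prime (hAK : A ≤ Subgroup.normalizer (K : Set G))
    (hcop : (Nat.card A).Coprime (Nat.card K)) (hsolv : Group.IsSolvable A ∨ Group.IsSolvable K)
    {p : ℕ} (hp : p.Prime) (hidx : (K ⊓ Subgroup.centralizer (A : Set G)).relIndex K = p) :
    Nat.card (⁅K, A⁆ : Subgroup G) = p := by
  have := Fact.mk hp
  set C : Subgroup G := K ⊓ Subgroup.centralizer (A : Set G) with hC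
  obtain ⟨S, hS⟩ := exists_invariant_sylow hAK hcop hsolv p
  set P : Subgroup G := (S : Subgroup K).map K.subtype with hPdef
  have hPK : P ≤ K := Subgroup.map_subtype_le _
  have hPp : IsPGroup p P := S.2.map _
  have hcopP := hcop.coprime_dvd_right (Subgroup.card_dvd_of_le hPK)
  have hsolvP : Group.IsSolvable A ∨ Group.IsSolvable P := hsolv.imp id (isSolvable_of_le hPK)
  -- `[P : C ∩ P] = p`
  have hPC : C.relIndex P = p := by
    have h1 : C.relIndex P ≤ p :=
      hidx ▸ Subgroup.relIndex_le_of_le_right hPK (by rw [hidx]; exact hp.ne_zero)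
    obtain ⟨n, hn⟩ := IsPGroup.iff_card.1 hPp
    obtain ⟨i, -, hi⟩ := (Nat.dvd_prime_pow hp).1 (hn ▸ Subgroup.relIndex_dvd_card (H := C) (K := P))
    rcases i with _ | i
    · exfalso
      rw [pow_zero, Subgroup.relIndex_eq_one] at hi
      have h2 : Nat.card C * p = Nat.card K := by
        rw [← hidx, Subgroup.relIndex,
          ← Nat.card_congr (Subgroup.subgroupOfEquivOfLe (inf_le_left : C ≤ K)).toEquiv,
          Subgroup.card_mul_index]
      have h3 : Nat.card P ∣ Nat.card C := Subgroup.card_dvd_of_le hi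
      rw [hPdef, Subgroup.card_map_of_injective K.subtype_injective, S.card_eq_multiplicity] at h3
      have h4 : p ^ ((Nat.card K).factorization p + 1) ∣ Nat.card K :=
        (pow_succ p _) ▸ ((mul_dvd_mul_right h3 p).trans h2.dvd)
      rw [hp.pow_dvd_iff_le_factorization Nat.card_pos.ne'] at h4
      omega
    · refine hi.trans (le_antisymm (hi ▸ h1) ?_)
      exact Nat.le_self_pow (Nat.succ_ne_zero i) p
  -- `K = P C`, so every Sylow subgroup is invariant
  have hfac : ∀ k ∈ K, ∃ x ∈ P, ∃ c ∈ C, c * x = k := fun k hk => by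
    obtain ⟨x, hx, c, hc, h⟩ :=
      exists_mul_eq_of_relIndex_eq hPK inf_le_left (hPC.trans hidx.symm) (K.inv_mem hk)
    exact ⟨x⁻¹, P.inv_mem hx, c⁻¹, C.inv_mem hc, by rw [← mul_inv_rev, h, inv_inv]⟩
  have hinv : ∀ k ∈ K, A ≤ Subgroup.normalizer ((MulAut.conj k • P : Subgroup G) : Set G) := by
    intro k hk a ha
    obtain ⟨x, hx, c, hc, rfl⟩ := hfac k hk
    rw [map_mul, mul_smul, conj_eq_of_mem_normalizer (Subgroup.le_normalizer hx)]
    refine mem_normalizer_of_conj_eq ?_
    rw [← mul_smul, ← map_mul, hc.2 a ha, map_mul, mul_smul, conj_eq_of_mem_normalizer (hS ha)]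
  -- `D = [P, A]`
  set P0 : Subgroup G := P ⊓ Subgroup.centralizer (A : Set G) with hP0
  set D : Subgroup G := ⁅P, A⁆ with hD
  have hDP : D ≤ P := commutator_le_left' hS
  have hsup : D ⊔ P0 = P := commutator_sup_centralizer hS hcopP hsolvP
  have hP0idx : P0.relIndex P = p := by
    rw [← hPC, hP0, hC, inf_comm, Subgroup.inf_relIndex_right]
    rw [Subgroup.relIndex, Subgroup.relIndex]
    congr 1
    ext x
    simp [Subgroup.mem_subgroupOf, hPK x.2]
  have hPN : P ≤ Subgroup.normalizer (P0 : Set G) := by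
    have hle : (P0.subgroupOf P).Normal := by
      refine PGroup.isCoatom_normal hPp ?_
      refine ⟨fun h => ?_, fun X hX => ?_⟩
      · have : (P0.subgroupOf P).index = p := hP0idx
        rw [h, Subgroup.index_top] at this
        exact hp.ne_one this.symm
      · have h1 : (P0.subgroupOf P).relIndex X * X.index = p :=
          (Subgroup.relIndex_mul_index hX.le).trans hP0idx
        rcases (Nat.dvd_prime hp).1 (Dvd.intro_left _ h1) with h2 | h2
        · exact Subgroup.index_eq_one.1 h2
        · exfalso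
          rw [h2] at h1
          exact hX.not_ge (Subgroup.relIndex_eq_one.1 (Nat.eq_of_mul_eq_mul_right hp.pos
            (h1.trans (one_mul p).symm)))
    exact (Subgroup.normal_subgroupOf_iff_le_normalizer inf_le_left).1 hle
  have hDP0 : P0 ≤ Subgroup.centralizer (D : Set G) := by
    rw [Subgroup.le_centralizer_iff, hD, Subgroup.commutator_comm,
      ← Subgroup.commutator_eq_bot_iff_le_centralizer]
    refine Subgroup.commutator_commutator_eq_bot_of_rotate ?_ ?_
    · rw [Subgroup.commutator_eq_bot_iff_le_centralizer]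
      exact (Subgroup.le_normalizer_iff_commutator_le_right.1 hPN).trans inf_le_right
    · rw [Subgroup.commutator_eq_bot_iff_le_centralizer.2 inf_le_right,
        Subgroup.commutator_bot_left]
  have hDA : A ≤ Subgroup.normalizer (D : Set G) :=
    le_normalizer_commutator hS Subgroup.le_normalizer
  -- `D` is abelian
  have hD0le : P0.relIndex D ≤ p :=
    hP0idx ▸ Subgroup.relIndex_le_of_le_right hDP (by rw [hP0idx]; exact hp.ne_zero)
  have hDc : IsMulCommutative D := by
    set Z : Subgroup D := P0.subgroupOf D with hZ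
    have hZc : Z ≤ Subgroup.center D := fun z hz => Subgroup.mem_center_iff.2 fun d =>
      Subtype.ext (hDP0 hz d.1 d.2)
    have : Z.Normal := Subgroup.normal_subgroupOf_of_le_normalizer (hDP.trans hPN)
    have hcyc : IsCyclic (D ⧸ Z) := by
      obtain ⟨n, hn⟩ := IsPGroup.iff_card.1 (hPp.to_le hDP)
      obtain ⟨i, -, hi⟩ := (Nat.dvd_prime_pow hp).1 (hn ▸ Z.index_dvd_card)
      have hle : Z.index ≤ p := hD0le
      rw [hi] at hle
      have hi1 : i ≤ 1 := (Nat.pow_le_pow_iff_right hp.one_lt).1 (by simpa using hle)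
      rw [Subgroup.index_eq_card] at hi
      interval_cases i
      · have : Subsingleton (D ⧸ Z) := (Nat.card_eq_one_iff_unique.1 (by simpa using hi)).1
        exact isCyclic_of_subsingleton
      · exact isCyclic_of_prime_card (p := p) (by simpa using hi)
    exact MonoidHom.isMulCommutative_of_isCyclic_of_ker_le_center (QuotientGroup.mk' Z)
      (by rw [QuotientGroup.ker_mk']; exact hZc)
  have hcc : ⁅D, A⁆ = D := commutator_commutator_eq hS hcopP hsolvP
  have hDinf : P0.subgroupOf D = ⊥ := by
    rw [eq_bot_iff]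
    intro x hx
    have h2 := abelian_inf_eq_bot hDA (hcopP.coprime_dvd_right (Subgroup.card_dvd_of_le hDP))
    rw [hcc] at h2
    have h3 : (x : G) ∈ (D ⊓ Subgroup.centralizer (A : Set G)) ⊓ D := ⟨⟨x.2, hx.2⟩, x.2⟩
    rw [h2] at h3
    exact Subgroup.mem_bot.2 (Subtype.ext (Subgroup.mem_bot.1 h3))
  have hDne : D ≠ ⊥ := fun h => by
    rw [h, bot_sup_eq] at hsup
    rw [hsup, Subgroup.relIndex_self] at hP0idx
    exact hp.ne_one hP0idx.symm
  have hDcard : Nat.card D = p := by
    have h1 : P0.relIndex D = Nat.card D := by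
      rw [Subgroup.relIndex, hDinf, Subgroup.index_bot]
    rw [h1] at hD0le
    obtain ⟨n, hn⟩ := IsPGroup.iff_card.1 (hPp.to_le hDP)
    rcases n with _ | n
    · exact absurd (Subgroup.card_eq_one.1 (by simpa using hn)) hDne
    · rw [hn] at hD0le ⊢
      exact le_antisymm hD0le (Nat.le_self_pow (Nat.succ_ne_zero n) p)
  -- `D` lies in every conjugate of `P`
  have hDall : ∀ k ∈ K, D ≤ MulAut.conj k • P := by
    intro k hk
    have hN : D ≤ Subgroup.normalizer ((MulAut.conj k • P : Subgroup G) : Set G) := by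
      rw [hD, Subgroup.commutator_le]
      intro x hx a ha
      rw [commutatorElement_def]
      refine Subgroup.mul_mem _ ?_ (Subgroup.inv_mem _ (hinv k hk ha))
      have h1 := conj_eq_of_mem_normalizer (hinv _ (K.mul_mem (K.inv_mem (hPK hx)) hk) ha)
      refine mem_normalizer_of_conj_eq ?_
      rw [map_mul, map_mul, mul_smul, mul_smul]
      rw [map_mul, mul_smul] at h1
      rw [h1, ← mul_smul, ← map_mul, mul_inv_cancel, map_one, one_smul]
    set Q : Subgroup G := MulAut.conj k • P
    have hQp : IsPGroup p (D ⊔ Q : Subgroup G) :=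
      (hPp.to_le hDP).to_sup_of_normal_right' (hPp.map _) hN
    have hle : D ⊔ Q ≤ K := sup_le (hDP.trans hPK) fun x hx => by
      rw [mem_conj] at hx
      have := K.mul_mem (K.mul_mem hk (hPK hx)) (K.inv_mem hk)
      group at this; simpa using this
    obtain ⟨T, hT⟩ := (hQp.of_equiv (Subgroup.subgroupOfEquivOfLe hle).symm).exists_le_sylow
    have h3 : Q = D ⊔ Q := by
      refine Subgroup.eq_of_le_of_card_ge le_sup_right ?_
      rw [card_conj, hPdef, Subgroup.card_map_of_injective K.subtype_injective,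
        S.card_eq_multiplicity, ← T.card_eq_multiplicity,
        ← Nat.card_congr (Subgroup.subgroupOfEquivOfLe hle).toEquiv]
      exact Subgroup.card_le_of_le hT
    exact h3 ▸ le_sup_left
  have hKA : ⁅K, A⁆ ≤ P := by
    rw [Subgroup.commutator_le]
    intro k hk a ha
    obtain ⟨x, hx, c, hc, rfl⟩ := hfac k hk
    have h2 : c * a * c⁻¹ = a := by rw [← hc.2 a ha]; group
    have h1 : ⁅c * x, a⁆ = c * ⁅x, a⁆ * c⁻¹ := by
      simp only [commutatorElement_def]
      calc c * x * a * (c * x)⁻¹ * a⁻¹ = c * x * a * x⁻¹ * a⁻¹ * c⁻¹ * ((c * a * c⁻¹) * a⁻¹) := by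
            group
        _ = _ := by rw [h2]; group
    rw [h1]
    have := hDall c⁻¹ (K.inv_mem hc.1) (Subgroup.commutator_mem_commutator hx ha)
    rwa [mem_conj, inv_inv] at this
  have hfinal : ⁅K, A⁆ = D := by
    refine le_antisymm ?_ (Subgroup.commutator_mono hPK le_rfl)
    rw [← commutator_commutator_eq hAK hcop hsolv]
    exact Subgroup.commutator_mono hKA le_rfl
  rw [hfinal, hDcard]

end Cfsg.Agent.Coprime
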