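import Cfsg.Agent.Lib.Coprime.Basic

/-!
# An `S₄` section from two transvections on a four-group

* `involves_s4_of_transvections`
-/

set_option autoImplicit false

namespace Cfsg.Agent.Coprime

variable {G : Type*} [Group G] [Finite G]

/-- Two involutions inducing the two transvections on a four-group `⟨u, w⟩` modulo a central
subgroup `V0` give a section isomorphic to `S₄`. -/
theorem involves_s4_of_transvections (V V0 : Subgroup G) (hV0 : V0 ≤ Subgroup.center G)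
    (hV0V : V0 ≤ V) [IsMulCommutative V] (hexp : ∀ x ∈ V, x * x = 1) {u w b c v v' : G}
    (hu : u ∈ V) (hw : w ∈ V) (hv : v ∈ V0) (hv' : v' ∈ V0)
    (hu0 : u ∉ V0) (hw0 : w ∉ V0) (huw0 : u * w ∉ V0) (hb2 : b * b = 1) (hc2 : c * c = 1)
    (hbw : b * w * b⁻¹ = w) (hcu : c * u * c⁻¹ = u)
    (hbu : b * u * b⁻¹ = w * v * u) (hcw : c * w * c⁻¹ = u * v' * w) :
    Cfsg.Involves (Equiv.Perm (Fin 4)) G := by
  have hcomm : ∀ {x y : G}, x ∈ V → y ∈ V → x * y = y * x := fun hx hy => setLike_mul_comm hx hy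
  have hinv : ∀ {x : G}, x ∈ V → x⁻¹ = x := fun hx => inv_eq_of_mul_eq_one_left (hexp _ hx)
  have hcen : ∀ {x : G}, x ∈ V0 → ∀ g : G, g * x * g⁻¹ = x := fun hx g => by
    rw [Subgroup.mem_center_iff.1 (hV0 hx) g, mul_inv_cancel_right]
  -- congruence modulo `V0`
  let R : G → G → Prop := fun x y => x * y⁻¹ ∈ V0
  have Rrefl : ∀ x, R x x := fun x => by simp [R, V0.one_mem]
  have Rsymm : ∀ {x y}, R x y → R y x := fun {x y} h => by simpa [R] using V0.inv_mem h
  have Rtrans : ∀ {x y z}, R x y → R y z → R x z := fun {x y z} h h' => by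
    simpa [R, mul_assoc] using V0.mul_mem h h'
  have Rconj : ∀ {x y} (g : G), R x y → R (g * x * g⁻¹) (g * y * g⁻¹) := fun {x y} g h => by
    show g * x * g⁻¹ * (g * y * g⁻¹)⁻¹ ∈ V0
    rw [show g * x * g⁻¹ * (g * y * g⁻¹)⁻¹ = g * (x * y⁻¹) * g⁻¹ by group, hcen h]
    exact h
  have Rmul : ∀ {x y} (z : G), z ∈ V0 → R x y → R (z * x) y := fun {x y} z hz h => by
    simpa [R, mul_assoc] using V0.mul_mem hz h
  -- the element `y = b c`
  set y := b * c with hy
  have hbi : b⁻¹ = b := inv_eq_of_mul_eq_one_left hb2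
  have hci : c⁻¹ = c := inv_eq_of_mul_eq_one_left hc2
  have hvV : v ∈ V := hV0V hv
  have hv'V : v' ∈ V := hV0V hv'
  have hbu' : R (b * u * b⁻¹) (u * w) := by
    rw [hbu, hcomm (V.mul_mem hw hvV) hu]
    show u * (w * v) * (u * w)⁻¹ ∈ V0
    rw [show u * (w * v) * (u * w)⁻¹ = (u * w) * v * (u * w)⁻¹ by group, hcen hv]
    exact hv
  have hyu : R (y * u * y⁻¹) (u * w) := by
    rw [show y * u * y⁻¹ = b * (c * u * c⁻¹) * b⁻¹ by rw [hy]; group, hcu]
    exact hbu'
  have hyw : R (y * w * y⁻¹) u := by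
    rw [show y * w * y⁻¹ = b * (c * w * c⁻¹) * b⁻¹ by rw [hy]; group, hcw,
      show b * (u * v' * w) * b⁻¹ = (b * u * b⁻¹) * (b * v' * b⁻¹) * (b * w * b⁻¹) by group,
      hbu, hbw, hcen hv']
    show w * v * u * v' * w * u⁻¹ ∈ V0
    have hvu : v * u * v' ∈ V := V.mul_mem (V.mul_mem hvV hu) hv'V
    rw [show w * v * u * v' * w * u⁻¹ = w * ((v * u * v') * w) * u⁻¹ by group, hcomm hvu hw,
      ← mul_assoc w, hexp w hw, one_mul, mul_assoc v u v', hcomm hu hv'V, ← mul_assoc,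
      mul_inv_cancel_right]
    exact V0.mul_mem hv hv'
  have hyuw : R (y * (u * w) * y⁻¹) w := by
    have h1 : R (u * w * (y * w * y⁻¹)) w := by
      show u * w * (y * w * y⁻¹) * w⁻¹ ∈ V0
      have e : u * w * (y * w * y⁻¹) * w⁻¹ = (u * w) * ((y * w * y⁻¹) * u⁻¹) * (u * w⁻¹) := by group
      rw [e, Subgroup.mem_center_iff.1 (hV0 hyw) (u * w), mul_assoc]
      refine V0.mul_mem hyw ?_
      rw [hinv hw, hexp _ (V.mul_mem hu hw)]
      exact V0.one_mem
    refine Rtrans ?_ h1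
    show y * (u * w) * y⁻¹ * (u * w * (y * w * y⁻¹))⁻¹ ∈ V0
    rw [show y * (u * w) * y⁻¹ * (u * w * (y * w * y⁻¹))⁻¹ = (y * u * y⁻¹) * (u * w)⁻¹ by group]
    exact hyu
  -- `y ^ 3` acts trivially
  have hy3 : ∀ z, (z = u ∨ z = w) → ∀ j : ℕ, R (y ^ (3 * j) * z * (y ^ (3 * j))⁻¹) z := by
    have step : ∀ z, (z = u ∨ z = w) → R (y ^ 3 * z * (y ^ 3)⁻¹) z := by
      intro z hz
      rw [show y ^ 3 * z * (y ^ 3)⁻¹ = y * (y * (y * z * y⁻¹) * y⁻¹) * y⁻¹ by
        simp only [pow_succ, pow_zero, one_mul, mul_inv_rev, mul_assoc]]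
      rcases hz with rfl | rfl
      · exact Rtrans (Rtrans (Rconj y (Rconj y hyu)) (Rconj y hyuw)) hyw
      · exact Rtrans (Rtrans (Rconj y (Rconj y hyw)) (Rconj y hyu)) hyuw
    intro z hz j
    induction j with
    | zero => simpa using Rrefl z
    | succ j ih =>
      rw [show y ^ (3 * (j + 1)) = y ^ 3 * y ^ (3 * j) by rw [← pow_add]; ring_nf,
        show y ^ 3 * y ^ (3 * j) * z * (y ^ 3 * y ^ (3 * j))⁻¹ =
          y ^ 3 * (y ^ (3 * j) * z * (y ^ (3 * j))⁻¹) * (y ^ 3)⁻¹ by group]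
      exact Rtrans (Rconj _ ih) (step z hz)
  have hpow : ∀ z, (z = u ∨ z = w) → ∀ n r : ℕ, n % 3 = r →
      R (y ^ n * z * (y ^ n)⁻¹) (y ^ r * z * (y ^ r)⁻¹) := by
    intro z hz n r hr
    have e : n = r + 3 * (n / 3) := by omega
    rw [e, pow_add, show y ^ r * y ^ (3 * (n / 3)) * z * (y ^ r * y ^ (3 * (n / 3)))⁻¹ =
      y ^ r * (y ^ (3 * (n / 3)) * z * (y ^ (3 * (n / 3)))⁻¹) * (y ^ r)⁻¹ by group]
    exact Rconj _ (hy3 z hz _)
  have huw : ¬ R u w := fun h => huw0 (by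
    have : u * w⁻¹ ∈ V0 := h
    rwa [hinv hw] at this)
  have huuw : ¬ R (u * w) u := fun h => hw0 (by
    have : u * w * u⁻¹ ∈ V0 := h
    rwa [hcomm hu hw, mul_inv_cancel_right] at this)
  have hwuw : ¬ R (u * w) w := fun h => hu0 (by
    have : u * w * w⁻¹ ∈ V0 := h
    rwa [mul_inv_cancel_right] at this)
  -- a power of `y` of `3`-power order acting like `y`
  obtain ⟨k, hk3, e, hke⟩ : ∃ k, k % 3 = 1 ∧ ∃ e, (y ^ k) ^ 3 ^ e = 1 := by
    set n := orderOf y
    have hn : n ≠ 0 := (orderOf_pos y).ne'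
    refine ⟨(n / 3 ^ n.factorization 3) ^ 2, ?_, n.factorization 3, ?_⟩
    · have h1 : ¬ 3 ∣ n / 3 ^ n.factorization 3 := Nat.not_dvd_ordCompl Nat.prime_three hn
      set m := n / 3 ^ n.factorization 3
      rw [Nat.pow_mod]
      have : m % 3 = 1 ∨ m % 3 = 2 := by omega
      rcases this with h | h <;> rw [h] <;> rfl
    · rw [← pow_mul, sq, mul_assoc, Nat.div_mul_cancel (Nat.ordProj_dvd n 3), mul_comm, pow_mul,
        pow_orderOf_eq_one, one_pow]
  set y' := y ^ k with hy'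
  have hbyb : b * y * b⁻¹ = y⁻¹ := by
    rw [hy, mul_inv_rev, hbi, hci, ← mul_assoc, hb2, one_mul]
  have hby' : ∀ i : ℕ, b * y' ^ i * b⁻¹ = (y' ^ i)⁻¹ := fun i => by
    rw [hy', ← pow_mul, ← conj_pow, hbyb, inv_pow]
  set Y := Subgroup.zpowers y'
  have hbY : Subgroup.zpowers b ≤ Subgroup.normalizer (Y : Set G) :=
    Subgroup.zpowers_le.2 (mem_normalizer_of_forall fun x hx => by
      obtain ⟨i, rfl⟩ := mem_powers_iff_mem_zpowers.2 hx
      show b * y' ^ i * b⁻¹ ∈ Y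
      rw [hby']
      exact Y.inv_mem (Y.pow_mem (Subgroup.mem_zpowers y') i))
  set D := Y ⊔ Subgroup.zpowers b with hD
  have hDcases : ∀ d ∈ D, ∃ i : ℕ, d = y' ^ i ∨ d = y' ^ i * b := by
    intro d hd
    obtain ⟨x, hx, z, hz, rfl⟩ := (mem_sup_iff hbY).1 hd
    obtain ⟨i, hi⟩ := mem_powers_iff_mem_zpowers.2 hx
    obtain ⟨j, hj⟩ := mem_powers_iff_mem_zpowers.2 hz
    refine ⟨i, ?_⟩
    have hi' : y' ^ i = x := hi
    have hj' : b ^ j = z := hj
    subst hi' hj'
    rcases Nat.even_or_odd' j with ⟨t, rfl | rfl⟩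
    · exact Or.inl (by rw [pow_mul, sq, hb2, one_pow, mul_one])
    · exact Or.inr (by rw [pow_succ, pow_mul, sq, hb2, one_pow, one_mul])
  -- the four-group
  set P : Subgroup G := V0 ⊔ Subgroup.zpowers u ⊔ Subgroup.zpowers w with hP
  have hPV : P ≤ V := sup_le (sup_le hV0V (Subgroup.zpowers_le.2 hu)) (Subgroup.zpowers_le.2 hw)
  have hnormV : ∀ {S T : Subgroup G}, S ≤ V → T ≤ V → T ≤ Subgroup.normalizer (S : Set G) :=
    fun hS hT x hx => mem_normalizer_of_forall fun z hz => by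
      rwa [hcomm (hT hx) (hS hz), mul_inv_cancel_right]
  have hcases : ∀ x ∈ P, ∃ z ∈ V0, x = z ∨ x = z * u ∨ x = z * w ∨ x = z * (u * w) := by
    intro x hx
    obtain ⟨x1, hx1, s, hs, rfl⟩ := (mem_sup_iff (hnormV
      (sup_le hV0V (Subgroup.zpowers_le.2 hu)) (Subgroup.zpowers_le.2 hw))).1 hx
    obtain ⟨z, hz, r, hr, rfl⟩ := (mem_sup_iff (hnormV hV0V (Subgroup.zpowers_le.2 hu))).1 hx1
    obtain ⟨i, hi⟩ := mem_powers_iff_mem_zpowers.2 hr
    obtain ⟨j, hj⟩ := mem_powers_iff_mem_zpowers.2 hs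
    have hi' : u ^ i = r := hi
    have hj' : w ^ j = s := hj
    subst hi' hj'
    refine ⟨z, hz, ?_⟩
    rcases Nat.even_or_odd' i with ⟨t, rfl | rfl⟩ <;> rcases Nat.even_or_odd' j with ⟨t', rfl | rfl⟩ <;>
      simp [pow_succ, pow_mul, sq, hexp u hu, hexp w hw, mul_assoc]
  have hmemP : ∀ {x t : G}, R x t → t ∈ P → x ∈ P := fun {x t} h ht => by
    have h' : x * t⁻¹ ∈ V0 := h
    have := P.mul_mem (Subgroup.mem_sup_left (Subgroup.mem_sup_left h') : x * t⁻¹ ∈ P) ht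
    rwa [inv_mul_cancel_right] at this
  have huP : u ∈ P := Subgroup.mem_sup_left (Subgroup.mem_sup_right (Subgroup.mem_zpowers u))
  have hwP : w ∈ P := Subgroup.mem_sup_right (Subgroup.mem_zpowers w)
  have hnorm : ∀ g : G, g * u * g⁻¹ ∈ P → g * w * g⁻¹ ∈ P → g ∈ Subgroup.normalizer (P : Set G) := by
    intro g h1 h2
    refine mem_normalizer_of_forall fun x hx => ?_
    have : P ≤ P.comap (MulAut.conj g).toMonoidHom := sup_le (sup_le
      (fun z hz => by
        show g * z * g⁻¹ ∈ P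
        rw [hcen hz]; exact Subgroup.mem_sup_left (Subgroup.mem_sup_left hz))
      (Subgroup.zpowers_le.2 h1)) (Subgroup.zpowers_le.2 h2)
    exact this hx
  have hy'P : y' ∈ Subgroup.normalizer (P : Set G) := hnorm _
    (hmemP (Rtrans (hpow u (Or.inl rfl) k 1 hk3) (by rw [pow_one]; exact hyu)) (P.mul_mem huP hwP))
    (hmemP (Rtrans (hpow w (Or.inr rfl) k 1 hk3) (by rw [pow_one]; exact hyw)) huP)
  have hbP : b ∈ Subgroup.normalizer (P : Set G) := hnorm _
    (hmemP hbu' (P.mul_mem huP hwP)) (by rw [hbw]; exact hwP)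
  have hDP : D ≤ Subgroup.normalizer (P : Set G) :=
    sup_le (Subgroup.zpowers_le.2 hy'P) (Subgroup.zpowers_le.2 hbP)
  -- `P ∩ D = 1`
  have hPD : ∀ d ∈ D, d ∈ P → d = 1 := by
    intro d hd hdP
    obtain ⟨i, rfl | rfl⟩ := hDcases d hd
    · have h2 : (y' ^ i) ^ 2 = 1 := by rw [sq]; exact hexp _ (hPV hdP)
      have h3 : (y' ^ i) ^ 3 ^ e = 1 := by
        rw [← pow_mul, mul_comm, pow_mul, hke, one_pow]
      obtain ⟨t, ht⟩ := exists_pow_eq_self_of_coprime (x := y' ^ i) (n := 2)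
        (Nat.Coprime.coprime_dvd_right (orderOf_dvd_of_pow_eq_one h3)
          (Nat.Coprime.pow_right e (by norm_num)))
      rw [← ht, h2, one_pow]
    · exfalso
      have hfix : ∀ z ∈ V, y' ^ i * b * z * (y' ^ i * b)⁻¹ = z := fun z hz => by
        rw [hcomm (hPV hdP) hz, mul_inv_cancel_right]
      have hwfix : R (y ^ (k * i) * w * (y ^ (k * i))⁻¹) w := by
        rw [pow_mul, ← hy', show y' ^ i * w * (y' ^ i)⁻¹ =
          y' ^ i * (b * w * b⁻¹) * (y' ^ i)⁻¹ by rw [hbw],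
          show y' ^ i * (b * w * b⁻¹) * (y' ^ i)⁻¹ = y' ^ i * b * w * (y' ^ i * b)⁻¹ by group,
          hfix w hw]
        exact Rrefl w
      have hmod : k * i % 3 = i % 3 := by rw [Nat.mul_mod, hk3, one_mul, Nat.mod_mod]
      rcases (by omega : i % 3 = 0 ∨ i % 3 = 1 ∨ i % 3 = 2) with h | h | h
      · have h1 := hpow (u) (Or.inl rfl) (k * i) 0 (hmod.trans h)
        have h1w := hpow w (Or.inr rfl) (k * i) 0 (hmod.trans h)
        rw [pow_zero, one_mul, inv_one, mul_one] at h1 h1w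
        have h2 : R u (u * w) := by
          refine Rtrans (?_ : R u (y' ^ i * (b * u * b⁻¹) * (y' ^ i)⁻¹)) ?_
          · rw [show y' ^ i * (b * u * b⁻¹) * (y' ^ i)⁻¹ = y' ^ i * b * u * (y' ^ i * b)⁻¹ by group,
              hfix u hu]
            exact Rrefl u
          · refine Rtrans (Rconj (y' ^ i) hbu') ?_
            rw [hy', ← pow_mul]
            show y ^ (k * i) * (u * w) * (y ^ (k * i))⁻¹ * (u * w)⁻¹ ∈ V0
            have e1 : y ^ (k * i) * (u * w) * (y ^ (k * i))⁻¹ * (u * w)⁻¹ =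
                (y ^ (k * i) * u * (y ^ (k * i))⁻¹) *
                  ((y ^ (k * i) * w * (y ^ (k * i))⁻¹) * w⁻¹) * u⁻¹ := by group
            rw [e1, Subgroup.mem_center_iff.1 (hV0 h1w) (y ^ (k * i) * u * (y ^ (k * i))⁻¹),
              mul_assoc]
            exact V0.mul_mem h1w h1
        exact huuw (Rsymm h2)
      · have h1 := hpow w (Or.inr rfl) (k * i) 1 (hmod.trans h)
        rw [pow_one] at h1
        exact huw (Rsymm (Rtrans (Rtrans (Rsymm hwfix) h1) hyw))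
      · have h1 := hpow w (Or.inr rfl) (k * i) 2 (hmod.trans h)
        rw [show y ^ 2 * w * (y ^ 2)⁻¹ = y * (y * w * y⁻¹) * y⁻¹ by
          simp only [sq, mul_inv_rev, mul_assoc]] at h1
        exact hwuw (Rsymm (Rtrans (Rtrans (Rtrans (Rsymm hwfix) h1) (Rconj y hyw)) hyu))
  set H := V0 ⊔ D with hH
  have hDV0 : D ≤ Subgroup.normalizer (V0 : Set G) := fun d _ =>
    mem_normalizer_of_forall fun z hz => by rwa [hcen hz]
  have hPH : ∀ x ∈ P, x ∈ H → x ∈ V0 := by
    intro x hx hxH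
    obtain ⟨z, hz, d, hd, rfl⟩ := (mem_sup_iff hDV0).1 hxH
    have : d = 1 := hPD d hd (by
      have := P.mul_mem (P.inv_mem (Subgroup.mem_sup_left (Subgroup.mem_sup_left hz) : z ∈ P)) hx
      rwa [inv_mul_cancel_left] at this)
    rwa [this, mul_one]
  set K := P ⊔ D with hK
  set H' := H.subgroupOf K with hH'
  have hPK : P ≤ K := le_sup_left
  -- the four cosets
  let r : Fin 4 → K := ![1, ⟨u, hPK huP⟩, ⟨w, hPK hwP⟩, ⟨u * w, hPK (P.mul_mem huP hwP)⟩]
  let φ : Fin 4 → K ⧸ H' := fun i => (r i : K ⧸ H')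
  have hφ : Function.Bijective φ := by
    constructor
    · intro i j hij
      have hij' : @Eq (K ⧸ H') (QuotientGroup.mk (r i)) (QuotientGroup.mk (r j)) := hij
      have h1 : ((r i : G))⁻¹ * (r j : G) ∈ H :=
        (QuotientGroup.eq (a := r i) (b := r j) (s := H')).1 hij'
      have hrP : ∀ l, (r l : G) ∈ P := by
        intro l; fin_cases l
        · exact P.one_mem
        · exact huP
        · exact hwP
        · exact P.mul_mem huP hwP
      have h2 := hPH _ (P.mul_mem (P.inv_mem (hrP i)) (hrP j)) h1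
      have e1 : u * (u * w) = w := by rw [← mul_assoc, hexp u hu, one_mul]
      have e2 : w * (u * w) = u := by rw [hcomm hu hw, ← mul_assoc, hexp w hw, one_mul]
      have e3 : (u * w)⁻¹ = u * w := hinv (V.mul_mem hu hw)
      have e4 : u * w * u = w := by rw [hcomm hu hw, mul_assoc, hexp u hu, mul_one]
      have e5 : u * w * w = u := by rw [mul_assoc, hexp w hw, mul_one]
      have e6 : w * u = u * w := (hcomm hu hw).symm
      fin_cases i <;> fin_cases j <;> first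
        | rfl
        | (exfalso; revert h2; simp [r, hinv hu, hinv hw, e1, e2, e3, e4, e5, e6, hu0, hw0, huw0])
    · intro q
      obtain ⟨⟨x, hx⟩, rfl⟩ := QuotientGroup.mk_surjective q
      obtain ⟨p, hp, d, hd, rfl⟩ := (mem_sup_iff hDP).1 hx
      obtain ⟨z, hz, hcase⟩ := hcases p hp
      have key : ∀ l, p = z * (r l : G) → ∃ i, φ i = ((⟨p * d, hx⟩ : K) : K ⧸ H') := fun l hl => by
        refine ⟨l, QuotientGroup.eq.2 ?_⟩
        show ((r l : G))⁻¹ * (p * d) ∈ H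
        rw [hl, ← Subgroup.mem_center_iff.1 (hV0 hz) (r l : G), mul_assoc, inv_mul_cancel_left]
        exact Subgroup.mul_mem_sup hz hd
      rcases hcase with rfl | h | h | h
      · exact key 0 (by simp [r])
      · exact key 1 (by simp [r, h])
      · exact key 2 (by simp [r, h])
      · exact key 3 (by simp [r, h])
  let ψ : K →* Equiv.Perm (Fin 4) :=
    ((Equiv.ofBijective φ hφ).symm.permCongrHom.toMonoidHom).comp (MulAction.toPermHom K (K ⧸ H'))
  have hψ : ∀ (g : K) (i j : Fin 4), g • φ i = φ j → ψ g i = j := fun g i j h => by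
    simp only [ψ, MonoidHom.coe_comp, Function.comp_apply, MulEquiv.coe_toMonoidHom]
    show (Equiv.ofBijective φ hφ).symm.permCongr (MulAction.toPermHom K (K ⧸ H') g) i = j
    rw [Equiv.permCongr_apply, Equiv.symm_symm, Equiv.symm_apply_eq]
    exact h
  suffices htop : ψ.range = ⊤ by
    have hn : ((ψ.ker.map K.subtype).subgroupOf K) = ψ.ker :=
      Subgroup.comap_map_eq_self_of_injective K.subtype_injective _
    have : ((ψ.ker.map K.subtype).subgroupOf K).Normal := by rw [hn]; infer_instance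
    exact ⟨K, ψ.ker.map K.subtype, this, ⟨(QuotientGroup.quotientMulEquivOfEq hn).trans
      (QuotientGroup.quotientKerEquivOfSurjective ψ (MonoidHom.range_eq_top.1 htop))⟩⟩
  set S := ψ.range with hS
  set bK : K := ⟨b, Subgroup.mem_sup_right (Subgroup.mem_sup_right (Subgroup.mem_zpowers b))⟩
  set yK : K := ⟨y', Subgroup.mem_sup_right (Subgroup.mem_sup_left (Subgroup.mem_zpowers y'))⟩
  have hbase : ∀ g : K, (g : G) ∈ H → ψ g 0 = 0 := fun g hg => by
    refine hψ g 0 0 ?_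
    show ((g * 1 : K) : K ⧸ H') = ((1 : K) : K ⧸ H')
    rw [QuotientGroup.eq]
    show ((g : G) * 1)⁻¹ * 1 ∈ H
    simpa using hg
  have hmove : ∀ (g : K), (g : G) ∈ D → ∀ t, R ((g : G) * u * (g : G)⁻¹) t → ¬ R t u → ψ g ≠ 1 := by
    intro g hg t ht htu heq
    obtain ⟨j, hj⟩ := hφ.2 (g • φ 1)
    have h0 := hψ g 1 j hj.symm
    rw [heq] at h0
    have hj1 : g • φ 1 = φ 1 := by rw [← hj]; exact congrArg φ h0.symm
    have h1 : ((g : G) * u)⁻¹ * u ∈ H :=
      (QuotientGroup.eq (a := g * r 1) (b := r 1) (s := H')).1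
        (hj1 : ((g * r 1 : K) : K ⧸ H') = ((r 1 : K) : K ⧸ H'))
    have h2 : (g : G) * u⁻¹ * (g : G)⁻¹ * u ∈ H := by
      have := H.mul_mem (Subgroup.mem_sup_right hg : (g : G) ∈ H) h1
      rwa [mul_inv_rev, ← mul_assoc, ← mul_assoc] at this
    have hguP : (g : G) * u * (g : G)⁻¹ ∈ P := (Subgroup.mem_normalizer_iff.1 (hDP hg) u).1 huP
    rw [hinv hu] at h2
    have h3 : R ((g : G) * u * (g : G)⁻¹) u := by
      show (g : G) * u * (g : G)⁻¹ * u⁻¹ ∈ V0
      rw [hinv hu]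
      exact hPH _ (P.mul_mem hguP huP) h2
    exact htu (Rtrans (Rsymm ht) h3)
  have hσ : ψ bK ≠ 1 := hmove bK (Subgroup.mem_sup_right (Subgroup.mem_zpowers b)) _ hbu' huuw
  have hτ : ψ yK ≠ 1 := hmove yK (Subgroup.mem_sup_left (Subgroup.mem_zpowers y')) (u * w)
    (Rtrans (hpow u (Or.inl rfl) k 1 hk3) (by rw [pow_one]; exact hyu)) huuw
  set T := MulAction.stabilizer S (0 : Fin 4)
  have hindex : T.index = 4 := by
    rw [MulAction.index_stabilizer]
    have : MulAction.orbit S (0 : Fin 4) = Set.univ := by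
      refine Set.eq_univ_of_forall fun j => ?_
      refine ⟨⟨ψ (r j), ⟨r j, rfl⟩⟩, ?_⟩
      refine hψ (r j) 0 j ?_
      show ((r j * 1 : K) : K ⧸ H') = _
      rw [mul_one]
    rw [this, Set.ncard_univ, Nat.card_eq_fintype_card, Fintype.card_fin]
  let σS : T := ⟨⟨ψ bK, ⟨bK, rfl⟩⟩,
    hbase bK (Subgroup.mem_sup_right (Subgroup.mem_sup_right (Subgroup.mem_zpowers b)))⟩
  let τS : T := ⟨⟨ψ yK, ⟨yK, rfl⟩⟩,
    hbase yK (Subgroup.mem_sup_right (Subgroup.mem_sup_left (Subgroup.mem_zpowers y')))⟩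
  have h2 : 2 ∣ Nat.card T := by
    have : orderOf σS = 2 := orderOf_eq_prime (by
      refine Subtype.ext (Subtype.ext ?_)
      show ψ bK ^ 2 = 1
      rw [← map_pow]
      have : bK ^ 2 = 1 := Subtype.ext (by show b ^ 2 = 1; rw [sq, hb2])
      rw [this, map_one]) (fun h => hσ (congrArg (fun x : T => ((x : S) : Equiv.Perm (Fin 4))) h))
    exact this ▸ orderOf_dvd_natCard σS
  have h3 : 3 ∣ Nat.card T := by
    have h1 : τS ^ 3 ^ e = 1 := by
      refine Subtype.ext (Subtype.ext ?_)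
      show ψ yK ^ 3 ^ e = 1
      rw [← map_pow]
      have : yK ^ 3 ^ e = 1 := Subtype.ext hke
      rw [this, map_one]
    obtain ⟨j, -, hj⟩ := (Nat.dvd_prime_pow Nat.prime_three).1 (orderOf_dvd_of_pow_eq_one h1)
    rcases j with _ | j
    · exact absurd (orderOf_eq_one_iff.1 hj)
        (fun h => hτ (congrArg (fun x : T => ((x : S) : Equiv.Perm (Fin 4))) h))
    · exact (dvd_pow_self 3 (Nat.succ_ne_zero j)).trans (hj ▸ orderOf_dvd_natCard τS)
  have h6 : 6 ≤ Nat.card T :=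
    Nat.le_of_dvd Nat.card_pos (Nat.Coprime.mul_dvd_of_dvd_of_dvd (by norm_num) h2 h3)
  refine Subgroup.eq_top_of_le_card S ?_
  rw [Nat.card_perm, Nat.card_eq_fintype_card, Fintype.card_fin, ← T.card_mul_index, hindex]
  have : Nat.factorial 4 = 24 := rfl
  omega

end Cfsg.Agent.Coprime
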